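import Cfsg.Agent.Fusion.NormalCentralizer.Fixed

/-!
Extending an automorphism across a normalizing subgroup.
-/

set_option autoImplicit false
set_option linter.unusedSectionVars false
set_option linter.style.haveILetI false

namespace Cfsg.Lib.Fusion.NormCent

open Cfsg Cfsg.FusionSystem Cfsg.Lib.Fusion

universe u

variable {Ω : Type u} [Group Ω] {S : Subgroup Ω} {F : FusionSystem S} {p : ℕ}

/-- An automorphism of `M` normalizing a `p`-group of automorphisms containing those induced by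
`A` extends to `M ⊔ A`, when `A` is strongly closed. -/
theorem exists_ext_normalizing [Finite S] [Fact p.Prime] (hF : F.IsSaturated p) {M A : Subgroup Ω}
    (hM : M ≤ S) (hA : F.StronglyClosed A) (hAM : ∀ s ∈ A, s ∈ Subgroup.normalizer (M : Set Ω))
    {K : Subgroup (MulAut M)} (hK : IsPGroup p K) (hKle : K ≤ F.autGroup M) {w : MulAut M}
    (hw : w ∈ F.autGroup M)
    (hc : ∀ s (hs : s ∈ A), conjAut M s (hAM s hs) ∈ K ∧ w * conjAut M s (hAM s hs) * w⁻¹ ∈ K) :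
    ∃ μ ∈ F.autGroup (M ⊔ A), ∀ x ∈ M, autFun μ x = autFun w x := by
  have hAS := hA.1
  have hBS : M ⊔ A ≤ S := sup_le hM hAS
  haveI := finite_of_le hM
  haveI := finite_of_le hAS
  haveI := finite_of_le hBS
  have hval : ∀ s (hs : s ∈ A), ∀ x ∈ M, autFun (conjAut M s (hAM s hs)) x = s * x * s⁻¹ :=
    fun s hs x hx => by rw [autFun_apply_mem _ hx]; exact conjAut_apply _ _
  obtain ⟨M', f, hf, hfi, hrec, hreal⟩ := exists_map_realize hF hM hK hKle
  have hle₁ : A ≤ extSub S M f := fun s hs => by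
    obtain ⟨σ, hσ, eσ⟩ := hreal _ (hc s hs).1
    exact ⟨hAS hs, hAM s hs, σ, hσ, fun x hx => by rw [← hval s hs x hx]; exact eσ x hx⟩
  have hfW : IsMap F M (f ∘ autFun w) :=
    ((isMap_autFun hM).mpr hw).comp hf fun x hx => autFun_mem w hx
  have hfWi : img M (f ∘ autFun w) = M' := by
    rw [img_comp ((isMap_autFun hM).mpr hw) ((img_autFun w).symm ▸ hf), img_autFun, hfi]
  have hle₂ : A ≤ extSub S M (f ∘ autFun w) := fun s hs => by
    obtain ⟨σ, hσ, eσ⟩ := hreal _ (hc s hs).2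
    refine ⟨hAS hs, hAM s hs, σ, hσ, fun x hx => ?_⟩
    have h := eσ _ (autFun_mem w hx)
    rw [autFun_mul _ _ (autFun_mem w hx), autFun_inv_apply' w hx, autFun_mul _ _ hx,
      hval s hs x hx] at h
    exact h
  obtain ⟨g₁, hg₁, eg₁⟩ := receptive_extend hrec hf hfi
  obtain ⟨g₂, hg₂, eg₂⟩ := receptive_extend hrec hfW hfWi
  have h₁ : IsMap F (M ⊔ A) g₁ := hg₁.mono (sup_le (le_extSub hf) hle₁)
  have h₂ : IsMap F (M ⊔ A) g₂ := hg₂.mono (sup_le (le_extSub hfW) hle₂)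
  have hAi : ∀ {g : Ω → Ω}, IsMap F (M ⊔ A) g → img A g = A := fun hg =>
    img_eq_of_apply hg le_sup_right fun x hx =>
      stronglyClosed_apply hA hg (Subgroup.mem_sup_right hx) hx
  obtain ⟨k, hk, -, hkl, -⟩ := h₁.exists_inv
  have himg : img (M ⊔ A) g₂ = img (M ⊔ A) g₁ := by
    rw [h₂.img_sup, h₁.img_sup, hAi h₂, hAi h₁, img_congr eg₂, img_congr eg₁, hfWi, hfi]
  have hg : IsMap F (M ⊔ A) (k ∘ g₂) :=
    h₂.comp hk fun x hx => himg ▸ IsMap.apply_mem_img hx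
  have hgB : ∀ y ∈ M ⊔ A, k (g₂ y) ∈ M ⊔ A := fun y hy => by
    obtain ⟨x, hx, e⟩ := h₁.mem_img.mp (himg ▸ IsMap.apply_mem_img hy : g₂ y ∈ img (M ⊔ A) g₁)
    rw [← e, hkl x hx]
    exact hx
  obtain ⟨μ, hμ, eμ⟩ := hg.exists_aut (img_eq_of_apply hg le_rfl hgB)
  refine ⟨μ, hμ, fun x hx => ?_⟩
  rw [eμ x (Subgroup.mem_sup_left hx)]
  show k (g₂ x) = _
  rw [eg₂ x hx]
  show k (f (autFun w x)) = _
  rw [← eg₁ _ (autFun_mem w hx), hkl _ (Subgroup.mem_sup_left (autFun_mem w hx))]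

/-- A power of order prime to `p` agreeing on a subgroup. -/
theorem exists_coprime_agree [Finite S] [Fact p.Prime] {B Q : Subgroup Ω} (hB : B ≤ S)
    (hQB : Q ≤ B) {μ : MulAut B} {α : MulAut Q} (hμ : ∀ x ∈ Q, autFun μ x = autFun α x)
    (hα : (orderOf α).Coprime p) :
    ∃ e : ℕ, (orderOf (μ ^ e)).Coprime p ∧ ∀ x ∈ Q, autFun (μ ^ e) x = autFun α x := by
  haveI := finite_of_le hB
  haveI := finite_mulAut B
  obtain ⟨e, he, he1⟩ := exists_coprime_power μ hα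
  refine ⟨e, he, fun x hx => ?_⟩
  rw [autFun_pow_agree μ α hQB hμ e x hx,
    (pow_eq_pow_iff_modEq.mpr he1).trans (pow_one α)]

theorem mul_pow_mod {U B : Subgroup Ω} (hn : B ≤ Subgroup.normalizer (U : Set Ω)) {a u : Ω}
    (ha : a ∈ B) (hu : u ∈ U) : ∀ n : ℕ, ∃ v ∈ U, (a * u) ^ n = a ^ n * v := by
  intro n
  induction n with
  | zero => exact ⟨1, U.one_mem, by simp⟩
  | succ n ih =>
    obtain ⟨v, hv, e⟩ := ih
    refine ⟨a⁻¹ * v * a⁻¹⁻¹ * u,
      U.mul_mem (conj_mem_of_mem_normalizer (hn (B.inv_mem ha)) hv) hu, ?_⟩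
    rw [pow_succ, e, pow_succ]
    group

/-- An automorphism of order prime to `p`, trivial on the shifts modulo `U`, is trivial modulo
`U`. -/
theorem mem_of_shift [Finite S] [Fact p.Prime] (hS : IsPGroup p S) {B U : Subgroup Ω} (hB : B ≤ S)
    (hU : ∀ x ∈ U, x ∈ B) (hn : B ≤ Subgroup.normalizer (U : Set Ω)) {μ : MulAut B}
    (hμ : μ ∈ F.autGroup B) (hμU : ∀ x ∈ U, autFun μ x ∈ U) (hp : (orderOf μ).Coprime p) {r : Ω}
    (hr : r ∈ B) (h : (autFun μ r * r⁻¹)⁻¹ * autFun μ (autFun μ r * r⁻¹) ∈ U) :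
    autFun μ r * r⁻¹ ∈ U := by
  set y := autFun μ r * r⁻¹
  set u := y⁻¹ * autFun μ y
  have hy : y ∈ B := B.mul_mem (autFun_mem μ hr) (B.inv_mem hr)
  have hm : IsMap F B (autFun μ) := (isMap_autFun hB).mpr hμ
  have hit : ∀ n : ℕ, ∃ v ∈ U, autFun (μ ^ n) r = y ^ n * v * r := by
    intro n
    induction n with
    | zero => exact ⟨1, U.one_mem, by rw [pow_zero, autFun_one hr]; simp⟩
    | succ n ih =>
      obtain ⟨v, hv, e⟩ := ih
      obtain ⟨w, hw, ew⟩ := mul_pow_mod hn hy h n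
      refine ⟨y⁻¹ * (w * autFun μ v) * y⁻¹⁻¹,
        conj_mem_of_mem_normalizer (hn (B.inv_mem hy)) (U.mul_mem hw (hμU v hv)), ?_⟩
      rw [pow_succ', autFun_mul _ _ hr, e, hm.map_mul (B.mul_mem (B.pow_mem hy n) (hU v hv)) hr,
        hm.map_mul (B.pow_mem hy n) (hU v hv), hm.map_pow hy,
        show autFun μ y = y * u by simp only [u]; group, ew,
        show autFun μ r = y * r by simp only [y]; group, pow_succ]
      group
  obtain ⟨v, hv, e⟩ := hit (orderOf μ)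
  rw [pow_orderOf_eq_one, autFun_one hr] at e
  have hym : y ^ orderOf μ ∈ U := by
    rw [show y ^ orderOf μ = (y ^ orderOf μ * v * r) * r⁻¹ * v⁻¹ by group, ← e]
    simpa using U.inv_mem hv
  obtain ⟨i, hi⟩ := exists_pow_eq_one hS (hB hy)
  exact mem_of_pow_mem_coprime hi hp hym

end Cfsg.Lib.Fusion.NormCent
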