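import Cfsg.Agent.Fusion.NormalCentralizer.Admissible
import Cfsg.Agent.Fusion.CentralizerSystem
import Cfsg.Agent.Fusion.Transfer.Focal

/-!
The focal subgroup of the centralizer system of `T` centralizes the normal subsystem.
-/

set_option autoImplicit false
set_option linter.unusedSectionVars false
set_option linter.style.haveILetI false

namespace Cfsg.Lib.Fusion.NormCent

open Cfsg Cfsg.FusionSystem Cfsg.Lib.Fusion

universe u

variable {Ω : Type u} [Group Ω] {S T : Subgroup Ω} {F : FusionSystem S} {E : FusionSystem T}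
  {p : ℕ} {Q : Subgroup Ω}

theorem isMap_zpow {P : Subgroup Ω} {f : Ω → Ω} (hf : IsMap F P f) {x : Ω} (hx : x ∈ P) (i : ℤ) :
    f (x ^ i) = f x ^ i := by
  obtain ⟨φ, -, e⟩ := id hf
  have := _root_.map_zpow φ ⟨x, hx⟩ i
  rw [e, e] at this
  simpa using this

theorem img_sup_zpowers {P : Subgroup Ω} {y : Ω} {f : Ω → Ω}
    (hf : IsMap F (P ⊔ Subgroup.zpowers y) f) :
    img (P ⊔ Subgroup.zpowers y) f = img P f ⊔ Subgroup.zpowers (f y) := by
  rw [hf.img_sup]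
  congr 1
  refine le_antisymm (IsMap.img_le_iff.mpr ?_)
    (Subgroup.zpowers_le.mpr (IsMap.apply_mem_img (Subgroup.mem_zpowers y)))
  rintro x ⟨i, rfl⟩
  exact ⟨i, (isMap_zpow hf (Subgroup.mem_sup_right (Subgroup.mem_zpowers y)) i).symm⟩

/-- An extension shifting `y` inside `Q` stabilizes `Q⟨y⟩`. -/
theorem img_shift [Finite S] {y : Ω} {α : MulAut Q} {h : Ω → Ω}
    (hh : IsMap F (Q ⊔ Subgroup.zpowers y) h) (hQ : ∀ x ∈ Q, h x = autFun α x)
    (hz : y⁻¹ * h y ∈ Q) : img (Q ⊔ Subgroup.zpowers y) h = Q ⊔ Subgroup.zpowers y := by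
  haveI := finite_of_le hh.le
  refine Subgroup.eq_of_le_of_card_ge ?_ hh.card_img.ge
  rw [img_sup_zpowers hh, img_congr hQ, img_autFun]
  refine sup_le le_sup_left (Subgroup.zpowers_le.mpr ?_)
  rw [show h y = y * (y⁻¹ * h y) by group]
  exact Subgroup.mul_mem _ (Subgroup.mem_sup_right (Subgroup.mem_zpowers y))
    (Subgroup.mem_sup_left hz)

/-- Two extensions of order prime to `p` shift an element of the centralizer equally. -/
theorem shift_eq_of_coprime [Finite S] [Fact p.Prime] (hS : IsPGroup p S) (hE : E.IsNormalIn F p)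
    (hQc : E.IsCentric Q) {y : Ω} (hy : y ∈ centralizerIn S Q) {α : MulAut Q}
    (hα : α ∈ E.autGroup Q) {h₁ h₂ : Ω → Ω} (hh₁ : IsMap F (Q ⊔ Subgroup.zpowers y) h₁)
    (hh₂ : IsMap F (Q ⊔ Subgroup.zpowers y) h₂) (hQ₁ : ∀ x ∈ Q, h₁ x = autFun α x)
    (hQ₂ : ∀ x ∈ Q, h₂ x = autFun α x) (hz₁ : y⁻¹ * h₁ y ∈ Q) (hz₂ : y⁻¹ * h₂ y ∈ Q)
    {m : ℕ} (hm : m.Coprime p) (hp₁ : h₁^[m] y = y) (hp₂ : h₂^[m] y = y) : h₁ y = h₂ y := by
  set B := Q ⊔ Subgroup.zpowers y
  have hQB : Q ≤ B := le_sup_left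
  have hyB : y ∈ B := Subgroup.mem_sup_right (Subgroup.mem_zpowers y)
  set z₁ := y⁻¹ * h₁ y
  set z₂ := y⁻¹ * h₂ y
  have e₁ : h₁ y = y * z₁ := by simp only [z₁]; group
  have e₂ : h₂ y = y * z₂ := by simp only [z₂]; group
  set c := z₂⁻¹ * z₁
  have hcQ : c ∈ Q := Q.mul_mem (Q.inv_mem hz₂) hz₁
  have hcC : c ∈ centralizerIn S Q := by
    have hC : ∀ (h : Ω → Ω), IsMap F B h → (∀ x ∈ Q, h x = autFun α x) →
        y⁻¹ * h y ∈ centralizerIn S Q := fun h hh hhQ => by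
      have h1 := hh.mem_centralizerIn hQB hyB hy
      rw [img_congr hhQ, img_autFun] at h1
      exact Subgroup.mul_mem _ (Subgroup.inv_mem _ hy) h1
    exact Subgroup.mul_mem _ (Subgroup.inv_mem _ (hC h₂ hh₂ hQ₂)) (hC h₁ hh₁ hQ₁)
  obtain ⟨k, hk, -, hkl, -⟩ := hh₂.exists_inv
  rw [img_shift hh₂ hQ₂ hz₂] at hk
  have hh₁B : ∀ x ∈ B, h₁ x ∈ B := fun x hx =>
    (img_shift hh₁ hQ₁ hz₁).le (IsMap.apply_mem_img hx)
  set w := autFun α⁻¹ c
  have hw : w ∈ Q := autFun_mem _ hcQ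
  have hdy : k (h₁ y) = y * w := by
    have : h₂ (y * w) = h₁ y := by
      rw [hh₂.map_mul hyB (hQB hw), hQ₂ w hw, autFun_inv_apply α hcQ, e₁, e₂]
      simp only [c]
      group
    rw [← this, hkl _ (B.mul_mem hyB (hQB hw))]
  have hfix := fixed_of_shift hS hE hQc hy (hh₁.comp hk hh₁B)
    (fun x hx => by
      show k (h₁ x) = x
      rw [hQ₁ x hx, ← hQ₂ x hx, hkl x (hQB hx)]) hw hdy hα
  rw [autFun_inv_apply α hcQ] at hfix
  have hαc : autFun α c = c := by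
    conv_lhs => rw [hfix]
    exact autFun_inv_apply α hcQ
  have hit : ∀ n : ℕ, ∃ s ∈ Q, h₂^[n] y = y * s ∧ h₁^[n] y = y * (s * c ^ n) := by
    intro n
    induction n with
    | zero => exact ⟨1, Q.one_mem, by simp, by simp⟩
    | succ n ih =>
      obtain ⟨s, hs, es₂, es₁⟩ := ih
      have hsc : s * c ^ n ∈ Q := Q.mul_mem hs (Q.pow_mem hcQ n)
      refine ⟨z₂ * autFun α s, Q.mul_mem hz₂ (autFun_mem α hs), ?_, ?_⟩
      · rw [Function.iterate_succ_apply', es₂, hh₂.map_mul hyB (hQB hs), hQ₂ s hs, e₂, mul_assoc]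
      · rw [Function.iterate_succ_apply', es₁, hh₁.map_mul hyB (hQB hsc),
          hh₁.map_mul (hQB hs) (hQB (Q.pow_mem hcQ n)), hQ₁ s hs,
          hh₁.map_pow (hQB hcQ), hQ₁ c hcQ, hαc, e₁]
        have hcomm := centralizerIn_comm hcC (autFun_mem α hs)
        calc y * z₁ * (autFun α s * c ^ n) = y * z₂ * (c * autFun α s) * c ^ n := by
              simp only [c]; group
          _ = y * z₂ * (autFun α s * c) * c ^ n := by rw [hcomm]
          _ = y * (z₂ * autFun α s * c ^ (n + 1)) := by rw [pow_succ']; group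
  obtain ⟨s, -, es₂, es₁⟩ := hit m
  rw [hp₂, eq_comm, mul_eq_left] at es₂
  rw [hp₁, es₂, one_mul, eq_comm, mul_eq_left] at es₁
  obtain ⟨i, hi⟩ := exists_pow_eq_one hS (hh₁.le (hQB hcQ))
  have hc1 : c = 1 := by
    simpa using mem_of_pow_mem_coprime (Q := (⊥ : Subgroup Ω)) hi hm (by simp [es₁])
  rw [e₁, e₂, show z₁ = z₂ from (inv_mul_eq_one.mp hc1).symm]

/-- A lift commutes with the maps fixing `Q`. -/
theorem commutator_fixed [Finite S] [Fact p.Prime] (hS : IsPGroup p S) (hE : E.IsNormalIn F p)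
    (hQc : E.IsCentric Q) {y : Ω} (hy : y ∈ centralizerIn S Q) {γ : Ω → Ω}
    (hγ : IsMap F (Q ⊔ Subgroup.zpowers y) γ) (hγQ : ∀ x ∈ Q, γ x = x) {α : MulAut Q}
    (hα : α ∈ E.autGroup Q) {δ : MulAut (Q ⊔ centralizerIn S Q : Subgroup Ω)}
    (hδ : δ ∈ F.autGroup (Q ⊔ centralizerIn S Q)) (hδp : (orderOf δ).Coprime p)
    (hδQ : ∀ x ∈ Q, autFun δ x = autFun α x)
    (hδc : ∀ c ∈ centralizerIn S Q, c⁻¹ * autFun δ c ∈ Q) :
    autFun δ (y⁻¹ * γ y) = y⁻¹ * γ y := by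
  set B := Q ⊔ Subgroup.zpowers y
  have hQB : Q ≤ B := le_sup_left
  have hyB : y ∈ B := Subgroup.mem_sup_right (Subgroup.mem_zpowers y)
  have hδm : IsMap F (Q ⊔ centralizerIn S Q) (autFun δ) :=
    (isMap_autFun (sup_le (hQB.trans hγ.le) inf_le_left)).mpr hδ
  have hy' : γ y ∈ centralizerIn S Q := by
    have := hγ.mem_centralizerIn hQB hyB hy
    rwa [img_congr hγQ, show img Q (fun x => x) = Q from img_id Q] at this
  set y' := γ y
  have hBX : B ≤ Q ⊔ centralizerIn S Q := sup_le_sup_left (Subgroup.zpowers_le.mpr hy) _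
  set B' := Q ⊔ Subgroup.zpowers y'
  have hB'X : B' ≤ Q ⊔ centralizerIn S Q := sup_le_sup_left (Subgroup.zpowers_le.mpr hy') _
  have himg : img B γ = B' := by
    rw [img_sup_zpowers hγ, img_congr hγQ, show img Q (fun x => x) = Q from img_id Q]
  obtain ⟨k, hk, -, hkl, hkr⟩ := hγ.exists_inv
  rw [himg] at hk hkr
  have hδ₁ := hδm.mono hBX
  have hδ₂ := hδm.mono hB'X
  have hδB' : ∀ x ∈ B', autFun δ x ∈ B' := fun x hx =>
    (img_shift hδ₂ hδQ (hδc _ hy')).le (IsMap.apply_mem_img hx)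
  have hγB : ∀ x ∈ B, γ x ∈ B' := fun x hx => himg ▸ IsMap.apply_mem_img hx
  set h₂ := k ∘ (autFun δ ∘ γ)
  have hh₂ : IsMap F B h₂ :=
    (hγ.comp hδ₂ hγB).comp hk fun x hx => hδB' _ (hγB x hx)
  set b := y'⁻¹ * autFun δ y'
  have hb : b ∈ Q := hδc _ hy'
  have hh₂y : h₂ y = y * b := by
    show k (autFun δ (γ y)) = _
    have : γ (y * b) = autFun δ (γ y) := by
      rw [hγ.map_mul hyB (hQB hb), hγQ b hb]
      simp only [b, y']
      group
    rw [← this, hkl _ (B.mul_mem hyB (hQB hb))]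
  have hit : ∀ n : ℕ, h₂^[n] y = k ((autFun δ)^[n] y') ∧ (autFun δ)^[n] y' ∈ B' := by
    intro n
    induction n with
    | zero => exact ⟨(hkl y hyB).symm, hγB y hyB⟩
    | succ n ih =>
      rw [Function.iterate_succ_apply', Function.iterate_succ_apply', ih.1]
      refine ⟨?_, hδB' _ ih.2⟩
      show k (autFun δ (γ (k _))) = _
      rw [hkr _ ih.2]
  have heq : autFun δ y = h₂ y := by
    refine shift_eq_of_coprime (m := orderOf δ) hS hE hQc hy hα hδ₁ hh₂ hδQ (fun x hx => ?_)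
      (hδc y hy) (by rw [hh₂y, inv_mul_cancel_left]; exact hb) hδp ?_ ?_
    · show k (autFun δ (γ x)) = _
      rw [hγQ x hx, hδQ x hx]
      conv_lhs => rw [← hγQ _ (autFun_mem α hx)]
      exact hkl _ (hQB (autFun_mem α hx))
    · rw [iterate_autFun δ (hBX hyB), pow_orderOf_eq_one, autFun_one (hBX hyB)]
    · rw [(hit _).1, iterate_autFun δ (hB'X (hγB y hyB)), pow_orderOf_eq_one,
        autFun_one (hB'X (hγB y hyB))]
      exact hkl y hyB
  have hyX : y ∈ Q ⊔ centralizerIn S Q := hBX hyB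
  rw [hδm.map_mul (Subgroup.inv_mem _ hyX) (Subgroup.mem_sup_right hy'), hδm.map_inv hyX, heq, hh₂y,
    show autFun δ y' = y' * b by simp only [b]; group]
  have hc : y⁻¹ * y' * b = b * (y⁻¹ * y') :=
    centralizerIn_comm (Subgroup.mul_mem _ (Subgroup.inv_mem _ hy) hy') hb
  calc (y * b)⁻¹ * (y' * b) = b⁻¹ * (y⁻¹ * y' * b) := by group
    _ = y⁻¹ * y' := by rw [hc, inv_mul_cancel_left]

/-- The generators of the focal subgroup of the centralizer system of `T` are admissible. -/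
theorem adm_commutator [Finite S] [Fact p.Prime] (hS : IsPGroup p S) (hE : E.IsNormalIn F p)
    {P : Subgroup Ω} (hP : P ≤ centralizerIn S T) {f : Ω → Ω}
    (hf : ∀ x ∈ P, f x ∈ centralizerIn S T) (hext : FixExt F T P f) {x : Ω} (hx : x ∈ P) :
    Adm F E (Subgroup.zpowers (x⁻¹ * f x)) := by
  obtain ⟨hEs, hF, hinv⟩ := hE.1
  have hTS : T ≤ S := hinv.2.1.1
  obtain ⟨k, hk, ek, hkT⟩ := hext
  set z := x⁻¹ * f x
  have hz : z ∈ centralizerIn S T := Subgroup.mul_mem _ (Subgroup.inv_mem _ (hP hx)) (hf x hx)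
  refine adm_of_coprime hS hE (Subgroup.zpowers_le.mpr hz) fun {Q} hQc {α} hα hαp => ?_
  have hQT : Q ≤ T := hQc.1
  have hQS : Q ≤ S := hQT.trans hTS
  haveI := finite_of_le hQS
  obtain ⟨Q', hQQ', hQ'⟩ := exists_fullyNormalized (F := F) hQS
  obtain ⟨g₀, hg₀, hi₀⟩ := isConj_iff.mp hQQ'
  obtain ⟨hfc, hfa, hrec⟩ := fullyNormalized_props hS hF hQ'
  obtain ⟨-, -, g, hg, hi, -, -⟩ := exists_map_normalizer hS hfa hrec hg₀ hi₀
  have hQN : Q ≤ normalizerIn S Q := le_normalizerIn hQS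
  have hXN : centralizerIn S T ≤ normalizerIn S Q :=
    (centralizerIn_anti hQT).trans (centralizerIn_le_normalizerIn Q)
  have hgQ : IsMap F Q g := hg.mono hQN
  have hQ'c : E.IsCentric Q' := hi ▸ CharSub.centricT_img hinv hQc hgQ
  set α' := MulAut.congr (hgQ.equiv hi) α
  have hα' : α' ∈ E.autGroup Q' := congr_mem_sub hinv hQT hgQ hi hα
  have hα'p : (orderOf α').Coprime p := by
    have e := orderOf_injective (MulAut.congr (hgQ.equiv hi)).toMonoidHom
      (MulAut.congr (hgQ.equiv hi)).injective α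
    exact e.symm ▸ hαp
  obtain ⟨δ, hδ, hδp, hδQ, hδc⟩ :=
    exists_coprime_lift (lift_of_fullyCentralized hS hE hQ'c hfc hα') hα'p
  set B := Q ⊔ Subgroup.zpowers x
  have hBN : B ≤ normalizerIn S Q := sup_le hQN (Subgroup.zpowers_le.mpr (hXN (hP hx)))
  have hxB : x ∈ B := Subgroup.mem_sup_right (Subgroup.mem_zpowers x)
  have hBP : B ≤ P ⊔ T := sup_le (hQT.trans le_sup_right)
    (Subgroup.zpowers_le.mpr (Subgroup.mem_sup_left hx))
  have hkB : IsMap F B k := hk.mono hBP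
  have hkN : ∀ u ∈ B, k u ∈ normalizerIn S Q := by
    have : img B k ≤ normalizerIn S Q := by
      rw [img_sup_zpowers hkB, ek x hx]
      refine sup_le (IsMap.img_le_iff.mpr fun u hu => ?_) (Subgroup.zpowers_le.mpr (hXN (hf x hx)))
      rw [hkT u (hQT hu)]
      exact hQN hu
    exact fun u hu => this (IsMap.apply_mem_img hu)
  have hgB : IsMap F B g := hg.mono hBN
  have hy : g x ∈ centralizerIn S Q' := by
    have := hgB.mem_centralizerIn le_sup_left hxB (centralizerIn_anti hQT (hP hx))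
    rwa [hi] at this
  obtain ⟨l, hl, -, hll, -⟩ := hgB.exists_inv
  rw [img_sup_zpowers hgB, hi] at hl
  have hlB : ∀ u ∈ Q' ⊔ Subgroup.zpowers (g x), l u ∈ B := by
    intro u hu
    rw [← hi, ← img_sup_zpowers hgB] at hu
    obtain ⟨v, hv, rfl⟩ := hgB.mem_img.mp hu
    rwa [hll v hv]
  have hfix := commutator_fixed (γ := g ∘ (k ∘ l)) hS hE hQ'c hy
    ((hl.comp hkB hlB).comp hg fun u hu => hkN _ (hlB u hu)) (fun u hu => by
      obtain ⟨v, hv, rfl⟩ := hgQ.mem_img.mp (hi.symm ▸ hu : u ∈ img Q g)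
      show g (k (l (g v))) = g v
      rw [hll v (Subgroup.mem_sup_left hv), hkT v (hQT hv)]) hα' hδ hδp hδQ hδc
  have hgz : (g x)⁻¹ * (g ∘ (k ∘ l)) (g x) = g z := by
    show (g x)⁻¹ * g (k (l (g x))) = g (x⁻¹ * f x)
    rw [hll x hxB, ek x hx, hg.map_mul ((normalizerIn S Q).inv_mem (hXN (hP hx))) (hXN (hf x hx)),
      hg.map_inv (hXN (hP hx))]
  rw [hgz] at hfix
  refine ext_of_fixed (hg.mono (sup_le hQN (Subgroup.zpowers_le.mpr (hXN hz)))) hgQ hi
    (Subgroup.zpowers_le.mpr (centralizerIn_anti hQT hz)) hδ hδQ ?_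
  rintro _ ⟨i, rfl⟩
  have hgzX : g z ∈ Q' ⊔ centralizerIn S Q' := by
    refine Subgroup.mem_sup_right ?_
    have := hg.mem_centralizerIn hQN (hXN hz) (centralizerIn_anti hQT hz)
    rwa [hi] at this
  show autFun δ (g (z ^ i)) = g (z ^ i)
  have hδm : IsMap F (Q' ⊔ centralizerIn S Q') (autFun δ) :=
    (isMap_autFun (sup_le hfc.1 inf_le_left)).mpr hδ
  rw [isMap_zpow hg (hXN hz), isMap_zpow hδm hgzX, hfix]

/-- The hyperfocal subgroup of `C_F(T)` lies in the largest admissible subgroup. -/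
theorem hyperfocal_le_largest [Finite S] [Fact p.Prime] (hS : IsPGroup p S)
    (hE : E.IsNormalIn F p) {C : Subgroup Ω} (hmax : ∀ Y, Adm F E Y → Y ≤ C) :
    (centralizerSystem F hE.1.2.2.2.1.1).hyperfocalSubgroup p ≤ C := by
  refine (hyperfocalSubgroup_le_focalSubgroup _ p).trans ?_
  rw [focalSubgroup_le_iff]
  intro P f hf x hx
  obtain ⟨hP, hfX, -, hext⟩ := (isMap_of_isCentralizerSystem
    (isCentralizerSystem_centralizerSystem _)).mp hf
  exact hmax _ (adm_commutator hS hE hP hfX hext hx) (Subgroup.mem_zpowers _)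

end Cfsg.Lib.Fusion.NormCent
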