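import Cfsg.Agent.Fusion.NormalCentralizer.Basic

/-!
Lifts of automorphisms of a normal subsystem to the centralizers.
-/

set_option autoImplicit false
set_option linter.unusedSectionVars false
set_option linter.style.haveILetI false

namespace Cfsg.Lib.Fusion.NormCent

open Cfsg Cfsg.FusionSystem Cfsg.Lib.Fusion

universe u

variable {Ω : Type u} [Group Ω] {S T : Subgroup Ω} {F : FusionSystem S} {E : FusionSystem T}
  {p : ℕ}

/-- Extension to `Q C_S(Q)`, trivial on `C_S(Q)` modulo `Q`. -/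
def Lift (F : FusionSystem S) (Q : Subgroup Ω) (f : Ω → Ω) : Prop :=
  ∃ W, IsMap F (Q ⊔ centralizerIn S Q) W ∧ (∀ x ∈ Q, W x = f x) ∧
    ∀ c ∈ centralizerIn S Q, c⁻¹ * W c ∈ Q

variable {Q Q' : Subgroup Ω}

theorem mem_of_lift {W : Ω → Ω} (hW : IsMap F (Q ⊔ centralizerIn S Q) W)
    (hQ : ∀ x ∈ Q, W x ∈ Q) (hc : ∀ c ∈ centralizerIn S Q, c⁻¹ * W c ∈ Q) :
    ∀ y ∈ Q ⊔ centralizerIn S Q, W y ∈ Q ⊔ centralizerIn S Q := fun y hy => by
  obtain ⟨a, ha, c, hcc, rfl⟩ := mem_sup_centralizerIn.mp hy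
  rw [hW.map_mul (Subgroup.mem_sup_left ha) (Subgroup.mem_sup_right hcc),
    show W c = c * (c⁻¹ * W c) by group]
  exact Subgroup.mul_mem _ (Subgroup.mem_sup_left (hQ a ha))
    (Subgroup.mul_mem _ (Subgroup.mem_sup_right hcc) (Subgroup.mem_sup_left (hc c hcc)))

theorem Lift.comp {f g : Ω → Ω} (hf : ∀ x ∈ Q, f x ∈ Q) (hg : ∀ x ∈ Q, g x ∈ Q)
    (h₁ : Lift F Q f) (h₂ : Lift F Q g) : Lift F Q (g ∘ f) := by
  obtain ⟨W₁, hW₁, e₁, c₁⟩ := h₁
  obtain ⟨W₂, hW₂, e₂, c₂⟩ := h₂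
  refine ⟨W₂ ∘ W₁, hW₁.comp hW₂ (mem_of_lift hW₁ (fun x hx => e₁ x hx ▸ hf x hx) c₁),
    fun x hx => ?_, fun c hc => ?_⟩
  · show W₂ (W₁ x) = g (f x)
    rw [e₁ x hx, e₂ _ (hf x hx)]
  · show c⁻¹ * W₂ (W₁ c) ∈ Q
    rw [show W₁ c = c * (c⁻¹ * W₁ c) by group,
      hW₂.map_mul (Subgroup.mem_sup_right hc) (Subgroup.mem_sup_left (c₁ c hc)),
      e₂ _ (c₁ c hc), ← mul_assoc]
    exact Q.mul_mem (c₂ c hc) (hg _ (c₁ c hc))

theorem Lift.congr {f g : Ω → Ω} (h : Lift F Q f) (e : ∀ x ∈ Q, g x = f x) : Lift F Q g :=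
  let ⟨W, hW, eW, hc⟩ := h
  ⟨W, hW, fun x hx => (eW x hx).trans (e x hx).symm, hc⟩

theorem lift_id (hQ : Q ≤ S) : Lift F Q id :=
  ⟨id, isMap_id (sup_le hQ inf_le_left), fun _ _ => rfl, fun c _ => by simp⟩

/-- Lifts move along maps which are onto on centralizers. -/
theorem Lift.transport [Finite S] {a b f : Ω → Ω} (ha : ∀ x ∈ Q, a x ∈ Q)
    (hf : IsMap F (Q ⊔ centralizerIn S Q) f) (hi : img Q f = Q')
    (hcard : Nat.card (centralizerIn S Q') ≤ Nat.card (centralizerIn S Q))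
    (hb : ∀ x ∈ Q, b (f x) = f (a x)) (h : Lift F Q a) : Lift F Q' b := by
  obtain ⟨W, hW, eW, hWc⟩ := h
  have hfC : ∀ c ∈ centralizerIn S Q, f c ∈ centralizerIn S Q' := fun c hc =>
    hi ▸ hf.mem_centralizerIn le_sup_left (Subgroup.mem_sup_right hc) hc
  have honto : ∀ c ∈ centralizerIn S Q', ∃ d ∈ centralizerIn S Q, f d = c := fun c hc =>
    exists_preimage_of_card_le hf le_sup_right inf_le_left hfC hcard hc
  have hWm := mem_of_lift hW (fun x hx => eW x hx ▸ ha x hx) hWc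
  obtain ⟨k, hk, -, hkl, -⟩ := hf.exists_inv
  have hle : Q' ⊔ centralizerIn S Q' ≤ img (Q ⊔ centralizerIn S Q) f := by
    refine sup_le (hi ▸ img_mono le_sup_left f) fun c hc => ?_
    obtain ⟨d, hd, rfl⟩ := honto c hc
    exact IsMap.apply_mem_img (Subgroup.mem_sup_right hd)
  have hkmem : ∀ y ∈ Q' ⊔ centralizerIn S Q', k y ∈ Q ⊔ centralizerIn S Q := fun y hy => by
    obtain ⟨x, hx, rfl⟩ := hf.mem_img.mp (hle hy)
    rwa [hkl x hx]
  refine ⟨f ∘ (W ∘ k), ((hk.mono hle).comp hW hkmem).comp hf fun y hy => hWm _ (hkmem y hy),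
    fun y hy => ?_, fun c hc => ?_⟩
  · obtain ⟨x, hx, rfl⟩ := (hf.mono le_sup_left).mem_img.mp (hi.symm ▸ hy : y ∈ img Q f)
    show f (W (k (f x))) = b (f x)
    rw [hkl x (Subgroup.mem_sup_left hx), eW x hx, hb x hx]
  · obtain ⟨d, hd, rfl⟩ := honto c hc
    have hdm : d ∈ Q ⊔ centralizerIn S Q := Subgroup.mem_sup_right hd
    show (f d)⁻¹ * f (W (k (f d))) ∈ Q'
    rw [hkl d hdm, ← hf.map_inv hdm, ← hf.map_mul (Subgroup.inv_mem _ hdm) (hWm d hdm), ← hi]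
    exact IsMap.apply_mem_img (hWc d hd)

/-- The automorphisms with a lift. -/
def liftable [Finite S] (F : FusionSystem S) (Q : Subgroup Ω) (hQ : Q ≤ S) : Subgroup (MulAut Q) :=
  haveI := finite_of_le hQ
  haveI := finite_mulAut Q
  have one : Lift F Q (autFun (1 : MulAut Q)) :=
    (lift_id hQ).congr fun _ hx => autFun_one hx
  have mul : ∀ {a b : MulAut Q}, Lift F Q (autFun a) → Lift F Q (autFun b) →
      Lift F Q (autFun (a * b)) := fun {a b} ha hb =>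
    (Lift.comp (fun x hx => autFun_mem b hx) (fun x hx => autFun_mem a hx) hb ha).congr
      fun x hx => autFun_mul a b hx
  { carrier := {a | Lift F Q (autFun a)}
    one_mem' := one
    mul_mem' := mul
    inv_mem' := fun {a} ha => by
      refine inv_mem_of_pow (good := fun b => Lift F Q (autFun b)) fun n => ?_
      induction n with
      | zero => rw [pow_zero]; exact one
      | succ n ih => rw [pow_succ]; exact mul ih ha }

theorem mem_liftable [Finite S] {hQ : Q ≤ S} {a : MulAut Q} :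
    a ∈ liftable F Q hQ ↔ Lift F Q (autFun a) := Iff.rfl

/-- The `p`-elements lift. -/
theorem lift_pElement [Finite S] [Fact p.Prime] (hS : IsPGroup p S) (hE : E.IsWeaklyNormalIn F p)
    (hQc : E.IsCentric Q) (hQn : F.IsFullyNormalized Q) {u : MulAut Q} (hu : u ∈ E.autGroup Q)
    (hk : ∃ k : ℕ, orderOf u = p ^ k) : u ∈ liftable F Q hQn.1 := by
  obtain ⟨hEs, hF, hinv⟩ := hE
  have hsc := hinv.2.1
  have hTS : T ≤ S := hsc.1
  haveI := finite_of_le hTS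
  haveI := finite_of_le hQn.1
  have hTp : IsPGroup p T := hS.of_injective _ (Subgroup.inclusion_injective hTS)
  have hQT : Q ≤ T := hQc.1
  obtain ⟨k, hk⟩ := hk
  have hup : IsPGroup p (Subgroup.zpowers u) := by
    refine IsPGroup.of_card (n := k) ?_
    rw [Nat.card_zpowers, hk]
  obtain ⟨χ, hχ, hχu⟩ := exists_conj_into_autS
    (fullyNormalized_props hTp hEs (fullyNormalized_sub hS hF hinv hQT hQn)).2.1 hup
    (Subgroup.zpowers_le.mpr hu)
  obtain ⟨t, ht, et⟩ := mem_autInducedBy.mp (hχu u (Subgroup.mem_zpowers u))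
  have htn := mem_normalizer_of_mem_autInducedBy et
  set X := Q ⊔ centralizerIn S Q
  have hXS : X ≤ S := sup_le hQn.1 inf_le_left
  have hl : Lift F Q (autFun (χ * u * χ⁻¹)) := by
    refine ⟨_, isMap_conj hXS (hTS ht), fun x hx => ?_, fun c hc => hQc.2 Q (isConj_refl hQT) ?_⟩
    · rw [autFun_apply_mem _ hx, et]
    · have hm : IsMap F X (fun y => t * y * t⁻¹) := isMap_conj hXS (hTS ht)
      have h1 := hm.mem_centralizerIn (P := Q) le_sup_left (Subgroup.mem_sup_right hc) hc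
      rw [img_eq_of_apply hm le_sup_left fun y hy => conj_mem_of_mem_normalizer htn hy] at h1
      refine Fusion.mem_centralizerIn.mpr ⟨?_, (Fusion.mem_centralizerIn.mp
        (Subgroup.mul_mem _ (Subgroup.inv_mem _ hc) h1)).2⟩
      have h2 : c⁻¹ * t * c⁻¹⁻¹ ∈ T :=
        conj_mem_of_mem_normalizer (normalizes_of_stronglyClosed hsc (S.inv_mem hc.1)) ht
      convert T.mul_mem h2 (T.inv_mem ht) using 1
      group
  -- back by an extension of `χ`
  have hχm : IsMap F Q (autFun χ⁻¹) :=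
    CharSub.isMap_of_sub hinv.1 ((isMap_autFun hQT).mpr (Subgroup.inv_mem _ hχ))
  obtain ⟨ψ, hψ, eψ⟩ :=
    receptive_extend (fullyNormalized_props hS hF hQn).2.2 hχm (img_autFun _)
  refine Lift.transport (a := autFun (χ * u * χ⁻¹)) (fun x hx => autFun_mem _ hx)
    (hψ.mono (sup_le (le_extSub hχm) (centralizerIn_le_extSub Q _)))
    ((img_congr eψ).trans (img_autFun _)) le_rfl (fun x hx => ?_) hl
  show autFun u (ψ x) = ψ (autFun (χ * u * χ⁻¹) x)
  rw [eψ x hx, eψ _ (autFun_mem _ hx), ← autFun_mul _ _ hx, ← autFun_mul _ _ hx]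
  congr 1
  group

/-- The automorphisms of `M` in the system that stabilize `N`, act on it as the subsystem does,
fix `Q` and are trivial modulo `N`. -/
def stabKer [Finite S] (F : FusionSystem S) (E : FusionSystem T) (M N Q : Subgroup Ω) (hM : M ≤ S)
    (hNM : N ≤ M) (hQN : Q ≤ N) : Subgroup (MulAut M) :=
  haveI := finite_of_le hM
  haveI := finite_mulAut M
  have one : (1 : MulAut M) ∈ F.autGroup M ∧ (∀ x ∈ Q, autFun (1 : MulAut M) x = x) ∧
      (∃ e ∈ E.autGroup N, ∀ x ∈ N, autFun (1 : MulAut M) x = autFun e x) ∧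
      ∀ m ∈ M, m⁻¹ * autFun (1 : MulAut M) m ∈ N :=
    ⟨one_mem _, fun x hx => autFun_one (hNM (hQN hx)),
      ⟨1, one_mem _, fun x hx => by rw [autFun_one hx, autFun_one (hNM hx)]⟩,
      fun m hm => by rw [autFun_one hm, inv_mul_cancel]; exact N.one_mem⟩
  have mul : ∀ {a b : MulAut M},
      (a ∈ F.autGroup M ∧ (∀ x ∈ Q, autFun a x = x) ∧
        (∃ e ∈ E.autGroup N, ∀ x ∈ N, autFun a x = autFun e x) ∧
        ∀ m ∈ M, m⁻¹ * autFun a m ∈ N) →
      (b ∈ F.autGroup M ∧ (∀ x ∈ Q, autFun b x = x) ∧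
        (∃ e ∈ E.autGroup N, ∀ x ∈ N, autFun b x = autFun e x) ∧
        ∀ m ∈ M, m⁻¹ * autFun b m ∈ N) →
      (a * b ∈ F.autGroup M ∧ (∀ x ∈ Q, autFun (a * b) x = x) ∧
        (∃ e ∈ E.autGroup N, ∀ x ∈ N, autFun (a * b) x = autFun e x) ∧
        ∀ m ∈ M, m⁻¹ * autFun (a * b) m ∈ N) := by
    rintro a b ⟨ha, haQ, ⟨d, hd, had⟩, haM⟩ ⟨hb, hbQ, ⟨e, he, hbe⟩, hbM⟩
    refine ⟨mul_mem ha hb, fun x hx => by rw [autFun_mul _ _ (hNM (hQN hx)), hbQ x hx, haQ x hx],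
      ⟨d * e, mul_mem hd he, fun x hx => by
        rw [autFun_mul _ _ (hNM hx), hbe x hx, had _ (autFun_mem e hx), autFun_mul _ _ hx]⟩,
      fun m hm => ?_⟩
    rw [autFun_mul _ _ hm, show autFun b m = m * (m⁻¹ * autFun b m) by group,
      ((isMap_autFun hM).mpr ha).map_mul hm (hNM (hbM m hm)), ← mul_assoc, had _ (hbM m hm)]
    exact N.mul_mem (haM m hm) (autFun_mem d (hbM m hm))
  { carrier := {h | h ∈ F.autGroup M ∧ (∀ x ∈ Q, autFun h x = x) ∧
      (∃ e ∈ E.autGroup N, ∀ x ∈ N, autFun h x = autFun e x) ∧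
      ∀ m ∈ M, m⁻¹ * autFun h m ∈ N}
    one_mem' := one
    mul_mem' := mul
    inv_mem' := fun {a} ha => by
      refine inv_mem_of_pow (good := fun h => h ∈ F.autGroup M ∧ (∀ x ∈ Q, autFun h x = x) ∧
        (∃ e ∈ E.autGroup N, ∀ x ∈ N, autFun h x = autFun e x) ∧
        ∀ m ∈ M, m⁻¹ * autFun h m ∈ N) fun n => ?_
      induction n with
      | zero => rw [pow_zero]; exact one
      | succ n ih => rw [pow_succ]; exact mul ih ha }

theorem isPGroup_stabKer [Finite S] [Fact p.Prime] (hS : IsPGroup p S) (hTS : T ≤ S)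
    (hEs : E.IsSaturated p) {M N Q : Subgroup Ω} (hM : M ≤ S) (hNM : N ≤ M) (hQN : Q ≤ N)
    (hNT : N ≤ T) (hn : ∀ x ∈ N, ∀ q ∈ Q, x * q * x⁻¹ ∈ Q) (hQc : E.IsCentric Q) :
    IsPGroup p (stabKer F E M N Q hM hNM hQN) := by
  haveI := finite_of_le hTS
  haveI := finite_of_le hM
  have hTp : IsPGroup p T := hS.of_injective _ (Subgroup.inclusion_injective hTS)
  rintro ⟨h, hh, hhQ, ⟨e, he, hhe⟩, hhM⟩
  obtain ⟨z, hz, hze⟩ := rigidity_aut hTp hEs hNT hQN hn hQc he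
    fun q hq => by rw [← hhe q (hQN hq), hhQ q hq]
  obtain ⟨i, hi⟩ := isPGroup_autInducedBy hTp N
    ⟨e, mem_autInducedBy.mpr ⟨z, hz.1, fun x => by rw [← autFun_apply, hze x x.2]⟩⟩
  have hi' : e ^ p ^ i = 1 := by simpa using congrArg Subtype.val hi
  obtain ⟨m, hm⟩ := IsPGroup.iff_card.mp hS
  have hexp : ∀ x : M, x ^ Nat.card S = 1 := fun x => Subtype.ext (by
    have := congrArg Subtype.val (pow_card_eq_one' (x := (⟨x, hM x.2⟩ : S)))
    simpa only [Subgroup.coe_pow, Subgroup.coe_one] using this)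
  obtain ⟨-, -, -, hmod⟩ := (stabKer F E M N Q hM hNM hQN).pow_mem
    (show h ∈ stabKer F E M N Q hM hNM hQN from ⟨hh, hhQ, ⟨e, he, hhe⟩, hhM⟩) (p ^ i)
  refine ⟨i + m, Subtype.ext ?_⟩
  show h ^ p ^ (i + m) = 1
  rw [pow_add, pow_mul, ← hm]
  refine chain_pow_eq_one _ (N : Set Ω) (fun x hx => Subtype.ext ?_) (fun x => ?_) hexp
  · rw [← autFun_apply, autFun_pow_agree h e hNM hhe _ _ hx, hi', autFun_one hx]
  · show (x : Ω)⁻¹ * (((h ^ p ^ i) x : M) : Ω) ∈ N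
    rw [← autFun_apply]
    exact hmod x x.2

end Cfsg.Lib.Fusion.NormCent
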