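import Cfsg.Agent.Fusion.NormalCentralizer.TopLift
import Cfsg.Agent.Fusion.PPowerDegree.System

/-!
The centralizer subsystem of a normal subsystem.
-/

set_option autoImplicit false
set_option linter.unusedSectionVars false
set_option linter.style.haveILetI false

namespace Cfsg.Lib.Fusion.NormCent

open Cfsg Cfsg.FusionSystem Cfsg.Lib.Fusion

universe u

variable {Ω : Type u} [Group Ω] {S T : Subgroup Ω} {F : FusionSystem S}
  {p : ℕ} [Finite S] [Fact p.Prime]

/-- A strongly closed subgroup is fully centralized. -/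
theorem fullyCentralized_of_stronglyClosed (hsc : F.StronglyClosed T) :
    F.IsFullyCentralized T := by
  refine ⟨hsc.1, fun R hR => ?_⟩
  obtain ⟨f, hf, rfl⟩ := isConj_iff.mp hR
  rw [img_eq_of_apply hf le_rfl fun x hx => stronglyClosed_apply hsc hf hx hx]

/-- Maps between subgroups centralizing `T` extend to `T`. -/
theorem exists_ext_sup (hS : IsPGroup p S) (hF : F.IsSaturated p) (hsc : F.StronglyClosed T)
    {R : Subgroup Ω} {f : Ω → Ω} (hf : IsMap F R f) (hR : R ≤ centralizerIn S T)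
    (hfR : ∀ x ∈ R, f x ∈ centralizerIn S T) :
    ∃ g, IsMap F (R ⊔ T) g ∧ (∀ x ∈ R, g x = f x) ∧ ∀ t ∈ T, g t ∈ T := by
  obtain ⟨V, hV, hVn⟩ := exists_fullyNormalized (F := F) hf.img_le
  obtain ⟨h₀, hh₀, hi₀⟩ := isConj_iff.mp hV
  have hrec := (fullyNormalized_props hS hF hVn).2.2
  obtain ⟨h, hh, eh⟩ := receptive_extend hrec hh₀ hi₀
  have hhf : IsMap F R (h₀ ∘ f) := hf.comp hh₀ fun x hx => IsMap.apply_mem_img hx
  obtain ⟨u, hu, eu⟩ := receptive_extend hrec hhf (by rw [img_comp hf hh₀, hi₀])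
  have hR' : img R f ≤ centralizerIn S T := IsMap.img_le_iff.mpr hfR
  have hhT : IsMap F (img R f ⊔ T) h := hh.mono (sup_le (le_extSub hh₀)
    ((le_centralizerIn_comm hR' hsc.1).trans (centralizerIn_le_extSub _ _)))
  have huT : IsMap F (R ⊔ T) u := hu.mono (sup_le (le_extSub hhf)
    ((le_centralizerIn_comm hR hsc.1).trans (centralizerIn_le_extSub _ _)))
  have hT : ∀ {P : Subgroup Ω} {g : Ω → Ω}, IsMap F (P ⊔ T) g → img T g = T := fun hg =>
    img_eq_of_apply hg le_sup_right fun x hx =>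
      stronglyClosed_apply hsc hg (Subgroup.mem_sup_right hx) hx
  obtain ⟨k, hk, -, hkl, -⟩ := hhT.exists_inv
  have hin : ∀ x ∈ R ⊔ T, u x ∈ img (img R f ⊔ T) h := by
    have : img (R ⊔ T) u ≤ img (img R f ⊔ T) h := by
      rw [huT.img_sup, hT huT, hhT.img_sup, hT hhT]
      refine sup_le_sup_right (IsMap.img_le_iff.mpr fun x hx => ?_) _
      rw [eu x hx]
      show h₀ (f x) ∈ _
      rw [← eh _ (IsMap.apply_mem_img hx)]
      exact IsMap.apply_mem_img (IsMap.apply_mem_img hx)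
    exact fun x hx => this (IsMap.apply_mem_img hx)
  have hg : IsMap F (R ⊔ T) (k ∘ u) := huT.comp hk hin
  refine ⟨k ∘ u, hg, fun x hx => ?_, fun t ht =>
    stronglyClosed_apply hsc hg (Subgroup.mem_sup_right ht) ht⟩
  show k (u x) = f x
  rw [eu x hx]
  show k (h₀ (f x)) = f x
  rw [← eh _ (IsMap.apply_mem_img hx), hkl _ (Subgroup.mem_sup_left (IsMap.apply_mem_img hx))]

variable {C : Subgroup Ω} {D : FusionSystem C}

theorem isMap_cent (hT : T ≤ S) {P : Subgroup Ω} {f : Ω → Ω} :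
    IsMap (centralizerSystem F hT) P f ↔ P ≤ centralizerIn S T ∧
      (∀ x ∈ P, f x ∈ centralizerIn S T) ∧ IsMap F P f ∧ FixExt F T P f :=
  isMap_of_isCentralizerSystem (isCentralizerSystem_centralizerSystem hT)

/-- Conjugation by a map stabilizing `T` preserves the automizers of the centralizer system. -/
theorem congr_mem_cent (hT : T ≤ S) {Q : Subgroup Ω} {g : Ω → Ω} (hg : IsMap F (Q ⊔ T) g)
    (hgT : ∀ t ∈ T, g t ∈ T) (hQ : Q ≤ centralizerIn S T) (hgQ : IsMap F Q g) {β : MulAut Q}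
    (hβ : β ∈ (centralizerSystem F hT).autGroup Q) :
    MulAut.congr (hgQ.equiv rfl) β ∈ (centralizerSystem F hT).autGroup (img Q g) := by
  have hTimg : img T g = T := img_eq_of_apply hg le_sup_right hgT
  have hQ' : img Q g ≤ centralizerIn S T := IsMap.img_le_iff.mpr fun x hx => by
    have := hg.mem_centralizerIn (P := T) le_sup_right (Subgroup.mem_sup_left hx) (hQ hx)
    rwa [hTimg] at this
  obtain ⟨-, -, hβF, γ, hγ, eγ, hγT⟩ := (isMap_cent hT).mp ((isMap_autFun hQ).mpr hβ)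
  have hmem := congr_mem_autGroup hgQ rfl ((isMap_autFun hgQ.le).mp hβF)
  refine (isMap_autFun hQ').mp ((isMap_cent hT).mpr
    ⟨hQ', fun x hx => hQ' (autFun_mem _ hx), (isMap_autFun hgQ.img_le).mpr hmem, ?_⟩)
  obtain ⟨k, hk, -, hkl, -⟩ := hg.exists_inv
  rw [hg.img_sup, hTimg] at hk
  have hkm : ∀ x ∈ img Q g ⊔ T, k x ∈ Q ⊔ T := fun x hx => by
    obtain ⟨u, hu, rfl⟩ := hg.mem_img.mp (by rwa [hg.img_sup, hTimg] : x ∈ img (Q ⊔ T) g)
    rwa [hkl u hu]
  have hγm : ∀ x ∈ Q ⊔ T, γ x ∈ Q ⊔ T := by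
    have : img (Q ⊔ T) γ ≤ Q ⊔ T := by
      rw [hγ.img_sup, img_congr eγ, img_autFun, fix_img hγT]
    exact fun x hx => this (IsMap.apply_mem_img hx)
  refine ⟨g ∘ (γ ∘ k), (hk.comp hγ hkm).comp hg fun x hx => hγm _ (hkm x hx),
    fun x hx => ?_, fun t ht => ?_⟩
  · obtain ⟨u, hu, rfl⟩ := hgQ.mem_img.mp hx
    show g (γ (k (g u))) = _
    rw [hkl u (Subgroup.mem_sup_left hu), eγ u hu, congr_equiv_spec hgQ rfl β hu]
  · obtain ⟨u, hu, rfl⟩ := (hg.mono le_sup_right).mem_img.mp (hTimg.symm ▸ ht : t ∈ img T g)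
    show g (γ (k (g u))) = g u
    rw [hkl u (Subgroup.mem_sup_right hu), hγT u hu]

/-- Transport by an automorphism of `C`. -/
theorem transport_cent (hS : IsPGroup p S) (hF : F.IsSaturated p) (hsc : F.StronglyClosed T)
    (hCX : C ≤ centralizerIn S T) (hD : D.IsSaturated p)
    (hidx : D.HasPPowerIndexIn (centralizerSystem F hsc.1) p) {α : MulAut C}
    (hα : α ∈ F.autGroup C) {P : Subgroup Ω} {f : Ω → Ω} (hf : IsMap D P f) :
    IsMap D (img P (autFun α)) (fun y => autFun α (f (autFun α⁻¹ y))) := by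
  have hT := hsc.1
  have hCS : C ≤ S := hCX.trans inf_le_left
  haveI := finite_of_le hCS
  haveI : Finite (centralizerIn S T) := finite_of_le inf_le_left
  have hXp : IsPGroup p (centralizerIn S T) :=
    hS.of_injective _ (Subgroup.inclusion_injective inf_le_left)
  have hCp : IsPGroup p C := hS.of_injective _ (Subgroup.inclusion_injective hCS)
  have ha : IsMap F C (autFun α) := (isMap_autFun hCS).mpr hα
  obtain ⟨g, hg, eg, hgT⟩ := exists_ext_sup hS hF hsc ha hCX fun x hx => hCX (autFun_mem α hx)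
  let Ψ : Subgroup Ω → (Ω → Ω) → Prop := fun R h =>
    IsMap D (img R (autFun α)) (fun y => autFun α (h (autFun α⁻¹ y)))
  have hcls : IsMapClass D Ψ :=
    { conj := fun R s hR hs => by
        refine (isMap_conj (IsMap.img_le_iff.mpr fun x hx => autFun_mem α (hR hx))
          (autFun_mem α hs)).congr fun y hy => ?_
        obtain ⟨x, hx, rfl⟩ := (ha.mono hR).mem_img.mp hy
        show autFun α (s * autFun α⁻¹ (autFun α x) * s⁻¹) = _
        rw [autFun_inv_apply' α (hR hx), ha.map_conj hs (hR hx)]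
      congr := fun R h h' hh e hp => hp.congr fun y hy => by
        obtain ⟨x, hx, rfl⟩ := (ha.mono hh.le).mem_img.mp hy
        rw [autFun_inv_apply' α (hh.le hx), e x hx]
      mono := fun R R' h _ hR hp => hp.mono (img_mono hR _)
      comp := fun R Q h h' hh hh' hQ hp hp' => by
        have hmem : ∀ y ∈ img R (autFun α), autFun α (h (autFun α⁻¹ y)) ∈ img Q (autFun α) := by
          intro y hy
          obtain ⟨x, hx, rfl⟩ := (ha.mono hh.le).mem_img.mp hy
          rw [autFun_inv_apply' α (hh.le hx)]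
          exact IsMap.apply_mem_img (hQ x hx)
        refine (hp.comp hp' hmem).congr fun y hy => ?_
        obtain ⟨x, hx, rfl⟩ := (ha.mono hh.le).mem_img.mp hy
        show autFun α (h' (h (autFun α⁻¹ (autFun α x)))) =
          autFun α (h' (autFun α⁻¹ (autFun α (h (autFun α⁻¹ (autFun α x))))))
        rw [autFun_inv_apply' α (hh.le hx), autFun_inv_apply' α (hh.mem_S hx)]
      inv := fun R h k hh _ hl hp => by
        obtain ⟨i, hi, -, hil, -⟩ := hp.exists_inv
        have hle : img (img R h) (autFun α) ≤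
            img (img R (autFun α)) (fun y => autFun α (h (autFun α⁻¹ y))) := by
          refine IsMap.img_le_iff.mpr fun y hy => ?_
          obtain ⟨x, hx, rfl⟩ := hh.mem_img.mp hy
          have := IsMap.apply_mem_img (f := fun y => autFun α (h (autFun α⁻¹ y)))
            (IsMap.apply_mem_img (f := autFun α) hx)
          simpa [autFun_inv_apply' α (hh.le hx)] using this
        refine (hi.mono hle).congr fun y hy => ?_
        obtain ⟨z, hz, rfl⟩ := (ha.mono hh.img_le).mem_img.mp hy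
        obtain ⟨x, hx, rfl⟩ := hh.mem_img.mp hz
        show autFun α (k (autFun α⁻¹ (autFun α (h x)))) = _
        rw [autFun_inv_apply' α (hh.mem_S hx), hl x hx]
        have e := hil _ (IsMap.apply_mem_img (f := autFun α) hx)
        simp only [autFun_inv_apply' α (hh.le hx)] at e
        exact e.symm }
  have hsite : ∀ Q : Subgroup Ω, D.IsFullyNormalized Q → ∀ γ ∈ D.autGroup Q, Ψ Q (autFun γ) := by
    intro Q hQn
    have hQ := hQn.1
    haveI := finite_of_le hQ
    have hm := ha.mono hQ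
    suffices hle : D.autGroup Q ≤ (D.autGroup (img Q (autFun α))).comap
        (MulAut.congr (hm.equiv rfl)).toMonoidHom by
      intro γ hγ
      refine ((isMap_autFun (IsMap.img_le_iff.mpr fun x hx => autFun_mem α (hQ hx))).mpr
        (hle hγ)).congr fun y hy => ?_
      obtain ⟨x, hx, rfl⟩ := hm.mem_img.mp hy
      show autFun α (autFun γ (autFun α⁻¹ (autFun α x))) =
        autFun (MulAut.congr (hm.equiv rfl) γ) (autFun α x)
      rw [autFun_inv_apply' α (hQ hx), congr_equiv_spec hm rfl γ hx]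
    refine PPower.autGroup_le_of hS hCS hD hQn ?_ ?_
    · intro β hβ
      obtain ⟨t, ht, et⟩ := mem_autInducedBy.mp hβ
      refine Subgroup.mem_comap.mpr (autInducedBy_le (IsMap.img_le_iff.mpr fun x hx =>
        autFun_mem α (hQ hx)) (mem_autInducedBy.mpr ⟨autFun α t, autFun_mem α ht, fun y => ?_⟩))
      obtain ⟨x, hx, e⟩ := hm.mem_img.mp y.2
      rw [← autFun_apply, ← e]
      show autFun (MulAut.congr (hm.equiv rfl) β) (autFun α x) = _
      rw [congr_equiv_spec hm rfl β hx, autFun_apply_mem _ hx, et, ha.map_conj ht (hQ hx)]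
    · intro β hβ hcop
      refine Subgroup.mem_comap.mpr (PPower.coprime_mem_autGroup hidx
        (IsMap.img_le_iff.mpr fun x hx => autFun_mem α (hQ hx)) ?_ ?_)
      · have hgQ : IsMap F Q g := (hg.mono le_sup_left).mono hQ
        have h1 := congr_mem_cent hT (hg.mono (sup_le_sup_right hQ T)) hgT (hQ.trans hCX) hgQ
          (PPower.autGroup_le_of_sub hidx.1 hQ hCX hβ)
        have himg : img Q g = img Q (autFun α) := img_congr fun x hx => eg x (hQ hx)
        have hle : img Q (autFun α) ≤ centralizerIn S T :=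
          IsMap.img_le_iff.mpr fun x hx => hCX (autFun_mem α (hQ hx))
        refine (isMap_autFun hle).mp ?_
        have h2 := (isMap_autFun (himg ▸ hle)).mpr h1
        refine (h2.mono himg.ge).congr fun y hy => ?_
        obtain ⟨x, hx, rfl⟩ := hm.mem_img.mp hy
        show autFun (MulAut.congr (hm.equiv rfl) β) (autFun α x) = _
        rw [congr_equiv_spec hm rfl β hx, ← eg x (hQ hx), congr_equiv_spec hgQ rfl β hx,
          eg _ (hQ (autFun_mem β hx))]
      · exact (orderOf_injective (MulAut.congr (hm.equiv rfl)).toMonoidHom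
          (MulAut.congr (hm.equiv rfl)).injective β).symm ▸ hcop
  have hCn : D.IsFullyNormalized C := ⟨le_rfl, fun Q hQ => by
    obtain ⟨h, hh, rfl⟩ := isConj_iff.mp hQ
    rw [Subgroup.eq_of_le_of_card_ge hh.img_le hh.card_img.ge]⟩
  refine alperin_radical hCp hD hcls (fun h hh => ?_)
    (fun Q _ hQn _ _ _ γ hγ => hsite Q hQn γ hγ) hf
  obtain ⟨γ, hγ, e⟩ := hh.exists_aut (Subgroup.eq_of_le_of_card_ge hh.img_le hh.card_img.ge)
  exact hcls.congr C _ h ((isMap_autFun le_rfl).mpr hγ) (fun x hx => (e x hx).symm)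
    (hsite C hCn γ hγ)

/-- The Frattini condition for the centralizer subsystem. -/
theorem frattini_cent (hS : IsPGroup p S) (hF : F.IsSaturated p) (hsc : F.StronglyClosed T)
    (hCsc : F.StronglyClosed C) (hCX : C ≤ centralizerIn S T)
    (hDn : D.IsNormalIn (centralizerSystem F hsc.1) p) {P : Subgroup Ω} (hP : P ≤ C) {f : Ω → Ω}
    (hf : IsMap F P f) :
    ∃ α ∈ F.autGroup C, ∃ f₀, IsMap D P f₀ ∧ ∀ x ∈ P, f x = autFun α (f₀ x) := by
  have hT := hsc.1
  have hCS : C ≤ S := hCsc.1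
  haveI := finite_of_le hT
  have hfC : ∀ x ∈ P, f x ∈ C := fun x hx => stronglyClosed_apply hCsc hf hx (hP hx)
  obtain ⟨a, haP, ea, haT⟩ := exists_ext_sup hS hF hsc hf (hP.trans hCX)
    fun x hx => hCX (hfC x hx)
  have haTm : IsMap F T a := haP.mono le_sup_right
  have haTi : img T a = T := img_eq_of_apply haTm le_rfl haT
  obtain ⟨a', ha₀, ea'⟩ := receptive_extend
    (receptive_of_fullyCentralized hS hF (fullyCentralized_of_stronglyClosed hsc)) haTm haTi
  set X := centralizerIn S T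
  have ha' : IsMap F (T ⊔ X) a' :=
    ha₀.mono (sup_le (le_extSub haTm) (centralizerIn_le_extSub T a))
  haveI : Finite X := finite_of_le inf_le_left
  have hX' : img X a' = X := img_eq_of_apply ha' le_sup_right fun x hx => by
    have := ha'.mem_centralizerIn (P := T) le_sup_left (Subgroup.mem_sup_right hx) hx
    rwa [img_congr ea', haTi] at this
  have hT' : img T a' = T := (img_congr ea').trans haTi
  obtain ⟨k, hk, -, hkl, hkr⟩ := ha'.exists_inv
  rw [ha'.img_sup, hT', hX'] at hk hkr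
  have hPle : img (P ⊔ T) a ≤ T ⊔ X := by
    rw [haP.img_sup, haTi]
    exact sup_le (IsMap.img_le_iff.mpr fun x hx =>
      Subgroup.mem_sup_right (ea x hx ▸ hCX (hfC x hx))) le_sup_left
  have hu : IsMap F (P ⊔ T) (k ∘ a) := haP.comp hk fun x hx => hPle (IsMap.apply_mem_img hx)
  have hkC : ∀ x ∈ C, k x ∈ C := fun x hx =>
    stronglyClosed_apply hCsc hk (Subgroup.mem_sup_right (hCX hx)) hx
  have huC : ∀ x ∈ P, k (a x) ∈ C := fun x hx => hkC _ (ea x hx ▸ hfC x hx)
  have huT : ∀ t ∈ T, (k ∘ a) t = t := fun t ht => by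
    show k (a t) = t
    rw [← ea' t ht, hkl t (Subgroup.mem_sup_left ht)]
  have hucent : IsMap (centralizerSystem F hT) P (k ∘ a) := (isMap_cent hT).mpr
    ⟨hP.trans hCX, fun x hx => hCX (huC x hx), hu.mono le_sup_left, k ∘ a, hu, fun _ _ => rfl, huT⟩
  obtain ⟨α₁, hα₁, f₀, hf₀, e₁⟩ := CharSub.frattiniT hDn.1.2.2 hP hucent
  have ha'C : IsMap F C a' := ha'.mono (hCX.trans le_sup_right)
  obtain ⟨α₀, hα₀, e₀⟩ := ha'C.exists_aut
    (haveI := finite_of_le hCS
     img_eq_of_apply ha'C le_rfl fun x hx => stronglyClosed_apply hCsc ha'C hx hx)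
  have hα₁F : α₁ ∈ F.autGroup C :=
    (isMap_autFun hCS).mp ((isMap_cent hT).mp ((isMap_autFun hCX).mpr hα₁)).2.2.1
  refine ⟨α₀ * α₁, mul_mem hα₀ hα₁F, f₀, hf₀, fun x hx => ?_⟩
  have hy : f₀ x ∈ C := hf₀.mem_S hx
  rw [autFun_mul _ _ hy, ← e₁ x hx]
  show f x = autFun α₀ (k (a x))
  rw [e₀ _ (huC x hx)]
  show f x = a' (k (a x))
  rw [hkr _ (hPle (IsMap.apply_mem_img (Subgroup.mem_sup_left hx))), ea x hx]

/-- The main theorem. -/
theorem exists_centralizer_subsystem {E : FusionSystem T} (hS : IsPGroup p S)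
    (hE : E.IsNormalIn F p) (hC : Adm F E C) (hmax : ∀ Y, Adm F E Y → Y ≤ C) :
    ∃ D : FusionSystem C, D.IsNormalIn F p ∧
      D.HasPPowerIndexIn (centralizerSystem F hE.1.2.2.2.1.1) p ∧
      ∀ P : Subgroup Ω, D.Hom P ⊆ F.centralizerHom T P := by
  obtain ⟨hEs, hF, hinv⟩ := hE.1
  have hsc := hinv.2.1
  have hT : T ≤ S := hsc.1
  have hCsc := stronglyClosed_largest hS hE hC hmax
  have hCS : C ≤ S := hCsc.1
  have hCX := hC.1
  haveI : Finite (centralizerIn S T) := finite_of_le inf_le_left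
  haveI := finite_of_le hCS
  have hXp : IsPGroup p (centralizerIn S T) :=
    hS.of_injective _ (Subgroup.inclusion_injective inf_le_left)
  have hCT := saturated_centralizer hS hF (fullyCentralized_of_stronglyClosed hsc)
    (isCentralizerSystem_centralizerSystem hT)
  obtain ⟨D, hD, hidx⟩ := PDeg.exists_system (p := p) (Nat.card (centralizerIn S T)) rfl hXp hCT
    hCX (hyperfocal_le_largest hS hE hmax)
  have hDn : D.IsNormalIn (centralizerSystem F hT) p := PPower.normal_of_index hXp hCT hCX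
    (fun s hs x hx => conj_mem_of_mem_normalizer (normalizes_of_stronglyClosed hCsc hs.1) hx)
    hD hidx
  refine ⟨D, ⟨⟨hD, hF, fun P φ hφ => (hidx.1 P hφ).1, hCsc, fun P hP φ hφ α hα => ?_,
    fun P hP φ hφ => ?_⟩, ?_⟩, hidx, fun P => hidx.1 P⟩
  · have himg : img P (autFun α) = (P.subgroupOf C).map (C.subtype.comp α.toMonoidHom) := by
      refine le_antisymm (IsMap.img_le_iff.mpr fun x hx => ?_) ?_
      · rw [autFun_apply_mem _ (hP hx)]
        exact ⟨⟨x, hP hx⟩, hx, rfl⟩
      · rintro _ ⟨x, hx, rfl⟩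
        rw [show C.subtype.comp α.toMonoidHom x = autFun α x from (autFun_apply α x).symm]
        exact IsMap.apply_mem_img hx
    obtain ⟨χ, hχ, e⟩ := transport_cent hS hF hsc hCX hD hidx hα (isMap_of_mem hφ)
    rw [← himg]
    refine ⟨χ, hχ, fun x hφx hαx => ?_⟩
    rw [e]
    show autFun α (toFun' φ (autFun α⁻¹ ((α ⟨x, hP x.2⟩ : C) : Ω))) = _
    rw [← autFun_apply α ⟨x, hP x.2⟩, autFun_inv_apply' α (hP x.2), toFun'_apply φ x]
    exact autFun_apply α ⟨φ x, hφx⟩
  · obtain ⟨α, hα, f₀, ⟨φ₀, hφ₀, e₀⟩, he⟩ :=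
      frattini_cent hS hF hsc hCsc hCX hDn hP (isMap_of_mem hφ)
    refine ⟨α, hα, φ₀, hφ₀, fun x hx => ?_⟩
    rw [← autFun_apply α ⟨φ₀ x, hx⟩, ← toFun'_apply φ x, he x x.2]
    show autFun α (f₀ x) = autFun α (φ₀ x)
    rw [e₀ x]
  intro α hα
  have hCn : D.IsFullyNormalized C := ⟨le_rfl, fun Q hQ => by
    obtain ⟨f, hf, rfl⟩ := isConj_iff.mp hQ
    rw [Subgroup.eq_of_le_of_card_ge hf.img_le hf.card_img.ge]⟩
  have hle : D.autGroup C ≤ liftable F C hCS := by
    refine PPower.autGroup_le_of hS hCS hD hCn (fun a ha => ?_) (fun a ha hap => ?_)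
    · obtain ⟨c, hc, ec⟩ := mem_autInducedBy.mp ha
      refine ⟨_, isMap_conj (sup_le hCS inf_le_left) (hCS hc), fun x hx => ?_, fun d hd => ?_⟩
      · rw [autFun_apply_mem _ hx, ec]
      · rw [show c * d * c⁻¹ = d by rw [← centralizerIn_comm hd hc, mul_inv_cancel_right],
          inv_mul_cancel]
        exact C.one_mem
    · exact lift_largest hS hE hCX hCsc hmax hap
        ((isMap_cent hT).mp ((isMap_autFun hCX).mpr
          (PPower.autGroup_le_of_sub hidx.1 le_rfl hCX ha))).2.2.2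
  obtain ⟨W, hW, eW, hWc⟩ := hle hα
  have hXS : C ⊔ centralizerIn S C ≤ S := sup_le hCS inf_le_left
  haveI := finite_of_le hXS
  obtain ⟨β, hβ, eβ⟩ := hW.exists_aut
    (img_eq_of_apply hW le_rfl (mem_of_lift hW (fun x hx => eW x hx ▸ autFun_mem α hx) hWc))
  refine ⟨β, hβ, fun x => ?_, fun c hc => ?_⟩
  · have h := (eβ _ (Subgroup.mem_sup_left x.2)).trans (eW x x.2)
    rw [autFun_apply α x, autFun_apply_mem β (Subgroup.mem_sup_left x.2)] at h
    exact h
  · rw [← autFun_apply β c, eβ _ c.2]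
    refine ⟨hWc _ hc, ?_⟩
    have h := hW.mem_centralizerIn (P := C) le_sup_left c.2 hc
    rw [img_congr eW, img_autFun] at h
    exact ((centralizerIn S C).mul_mem ((centralizerIn S C).inv_mem hc) h).2

/-- The form of the statement. -/
theorem main_centralizer {E : FusionSystem T} (hS : IsPGroup p S) (hE : E.IsNormalIn F p)
    (hY : C ≤ centralizerIn S T) (hEY : ∀ P : Subgroup Ω, E.Hom P ⊆ F.centralizerHom C P)
    (hmax : ∀ Y : Subgroup Ω, Y ≤ centralizerIn S T →
      (∀ P : Subgroup Ω, E.Hom P ⊆ F.centralizerHom Y P) → Y ≤ C) :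
    ∃ D : FusionSystem C, D.IsNormalIn F p ∧
      ∀ P : Subgroup Ω, D.Hom P ⊆ F.centralizerHom T P :=
  have hsub := hE.1.2.2.1
  let ⟨D, hD, _, hsubset⟩ := exists_centralizer_subsystem hS hE ((adm_iff hsub).mpr ⟨hY, hEY⟩)
    fun Y hY' => hmax Y ((adm_iff hsub).mp hY').1 ((adm_iff hsub).mp hY').2
  ⟨D, hD, hsubset⟩

end Cfsg.Lib.Fusion.NormCent
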