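import Cfsg.Agent.Fusion.NormalCentralizer.NormalAction
import Cfsg.Agent.Fusion.NormalCentralizer.CentSub
import Cfsg.Agent.Fusion.FactorHyperfocal
import Cfsg.Agent.Fusion.InnerSubsystem
import Cfsg.Agent.Fusion.ComponentImage

/-!
The largest normal subgroup centralizes the layer.
-/

set_option autoImplicit false
set_option linter.unusedSectionVars false
set_option linter.style.haveILetI false

namespace Cfsg.Lib.Fusion.NormCent

open Cfsg Cfsg.FusionSystem Cfsg.Lib.Fusion

universe u

variable {Ω : Type u} [Group Ω] {S T R : Subgroup Ω} {F : FusionSystem S} {p : ℕ}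

/-- The inner system of a normal subgroup is a normal subsystem. -/
theorem inner_isNormalIn [Finite S] [Fact p.Prime] (hS : IsPGroup p S) (hF : F.IsSaturated p)
    (hR : F.IsNormal R) : (innerFusionSystem R).IsNormalIn F p := by
  haveI := finite_of_le hR.1
  refine ⟨⟨saturated_innerFusionSystem R (hS.of_injective _ (Subgroup.inclusion_injective hR.1)), hF,
    ?_, stronglyClosed_of_isNormal hR, ?_, ?_⟩, ?_⟩
  · intro P φ hφ
    obtain ⟨hP, g, hg, e⟩ := hφ
    exact (isMap_conj (F := F) (hP.trans hR.1) (hR.1 hg)).mem_of_agree e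
  · intro P hPR φ hφ α hα
    obtain ⟨-, g, hg, e⟩ := id hφ
    set Q := (P.subgroupOf R).map (R.subtype.comp α.toMonoidHom)
    have hQR : Q ≤ R := by
      rintro _ ⟨t, -, rfl⟩
      exact (α t).2
    obtain ⟨χ, hχ, eχ⟩ : IsMap (innerFusionSystem R) Q
        (fun y => autFun α g * y * (autFun α g)⁻¹) := isMap_conj hQR (autFun_mem α hg)
    refine ⟨χ, hχ, fun x hφx hαx => ?_⟩
    rw [eχ]
    show autFun α g * ((α ⟨x, hPR x.2⟩ : R) : Ω) * (autFun α g)⁻¹ = _
    rw [← autFun_apply α ⟨x, hPR x.2⟩, ← autFun_apply α ⟨φ x, hφx⟩,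
      ← ((isMap_autFun hR.1).mpr hα).map_conj hg (hPR x.2)]
    exact congrArg (autFun α) (e x).symm
  · intro P hPR φ hφ
    obtain ⟨k, hk, hkf, hki⟩ := extend_of_isNormal hR (isMap_of_mem hφ)
    obtain ⟨α, hα, hαe⟩ := (hk.mono le_sup_right).exists_aut hki
    obtain ⟨φ₀, hφ₀, e⟩ : IsMap (innerFusionSystem R) P id := isMap_id hPR
    refine ⟨α, hα, φ₀, hφ₀, fun x hx => ?_⟩
    rw [← autFun_apply α ⟨φ₀ x, hx⟩]
    show φ x = autFun α (φ₀ x)
    rw [e]
    show φ x = autFun α (x : Ω)
    rw [hαe _ (hPR x.2), hkf _ x.2, toFun'_apply]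
  · intro α hα
    obtain ⟨-, g, hg, e⟩ := isMap_inner_iff.mp ((isMap_autFun le_rfl).mpr hα)
    set B := R ⊔ centralizerIn S R
    have hBS : B ≤ S := sup_le hR.1 inf_le_left
    haveI := finite_of_le hBS
    have hm : IsMap F B (fun y => g * y * g⁻¹) := isMap_conj hBS (hR.1 hg)
    obtain ⟨β, hβ, eβ⟩ := hm.exists_aut (img_eq_of_apply hm le_rfl fun x hx =>
      B.mul_mem (B.mul_mem (Subgroup.mem_sup_left hg) hx) (B.inv_mem (Subgroup.mem_sup_left hg)))
    refine ⟨β, hβ, fun x => ?_, fun c hc => ?_⟩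
    · have h := eβ _ (Subgroup.mem_sup_left x.2 : (x : Ω) ∈ B)
      rw [autFun_apply_mem β (Subgroup.mem_sup_left x.2)] at h
      rw [← autFun_apply α x, e x x.2]
      exact h
    · rw [← autFun_apply β c, eβ _ c.2]
      show (c : Ω)⁻¹ * (g * c * g⁻¹) ∈ _
      rw [show g * (c : Ω) * g⁻¹ = c by rw [← centralizerIn_comm hc hg, mul_inv_cancel_right],
        inv_mul_cancel]
      exact Subgroup.one_mem _

/-- A normal subgroup of a quasisimple system is central. -/
theorem le_center_of_quasisimple [Finite S] [Fact p.Prime] (hS : IsPGroup p S)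
    (hq : F.Quasisimple p) (hR : F.IsNormal R) : R ≤ F.center := by
  obtain ⟨hF, hperf, hsimp⟩ := hq
  set Z := F.center
  have hZS : Z ≤ S := isCentral_center.1
  have hZsc : F.StronglyClosed Z := stronglyClosed_of_apply hZS fun P f hf x hx hxZ => by
    rw [apply_of_mem_center hxZ hf hx]
    exact hxZ
  set θ := QuotientGroup.mk' (Z.subgroupOf S)
  have hker : ∀ s : S, θ s = 1 ↔ (s : Ω) ∈ Z := fun s =>
    (QuotientGroup.eq_one_iff s).trans Subgroup.mem_subgroupOf
  have hrange : θ.range = ⊤ := MonoidHom.range_eq_top.mpr (QuotientGroup.mk'_surjective _)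
  obtain ⟨E, hE⟩ := exists_factor_of_range (kerClosed_of_stronglyClosed hZsc hker) hZS hker hrange
  obtain ⟨hEs, hne, hall⟩ := hsimp E hE
  have h := isQuot_of_isFactorSystem hZsc hE
  haveI : Finite (⊤ : Subgroup (S ⧸ Z.subgroupOf S)) := finite_of_range hrange
  have hTp : IsPGroup p (⊤ : Subgroup (S ⧸ Z.subgroupOf S)) :=
    (hS.to_quotient _).of_injective (Subgroup.subtype _) Subtype.val_injective
  have hRb : E.IsNormal (imageAlong θ R) := by
    refine isNormal_of_extendsWith le_top fun P' f' hf' => ?_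
    haveI := finite_of_le (le_top : imageAlong θ R ≤ ⊤)
    obtain ⟨f, hf, hfe⟩ := h.exists_lift hf'
    obtain ⟨k, hk, hkf, hki⟩ := extend_of_isNormal hR hf
    set X := preimageAlong θ P' ⊔ R
    have hXS : X ≤ S := sup_le (preimageAlong_le _) hR.1
    have hZX : Z ≤ preimageAlong θ P' := fun x hx => mem_preimageAlong.mpr ⟨hZS hx, by
      rw [qmap_apply (hZS hx), (hker ⟨x, hZS hx⟩).mpr hx]; exact Subgroup.one_mem _⟩
    have hpre : preimageAlong θ (imageAlong θ X) = X := by
      rw [preimage_imageAlong hZS hXS hker, sup_eq_left]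
      exact hZX.trans le_sup_left
    have hrep : ∀ y ∈ imageAlong θ R, ∃ r ∈ R, qmap θ r = y := by
      rintro _ ⟨s, hs, rfl⟩
      exact ⟨s, hs, qmap_apply s.2⟩
    have hm0 := h.isMap_pushMap (P' := imageAlong θ X) le_top (f := k) (hpre.symm ▸ hk)
    have happ : ∀ x ∈ X, pushMap θ k (qmap θ x) = qmap θ (k x) := fun x hx =>
      h.pushMap_apply (P' := imageAlong θ X) (hpre.symm ▸ hk) (hpre.symm ▸ hx)
    have hsup : P' ⊔ imageAlong θ R ≤ imageAlong θ X := by
      refine sup_le (fun y hy => ?_) (Subgroup.map_mono (Subgroup.comap_mono le_sup_right))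
      obtain ⟨x, hx, rfl⟩ := exists_preimage (θ := θ) (hrange.symm ▸ le_top) hy
      rw [qmap_apply (preimageAlong_le _ hx)]
      exact ⟨_, Subgroup.mem_sup_left hx, rfl⟩
    have hm := hm0.mono hsup
    refine ⟨pushMap θ k, hm, fun y hy => ?_, img_eq_of_apply hm le_sup_right fun y hy => ?_⟩
    · obtain ⟨x, hx, rfl⟩ := exists_preimage (θ := θ) (hrange.symm ▸ le_top) hy
      rw [happ x (Subgroup.mem_sup_left hx), hkf x hx, hfe x hx]
    · obtain ⟨r, hr, rfl⟩ := hrep y hy
      rw [happ r (Subgroup.mem_sup_right hr)]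
      have hkr : k r ∈ R := IsMap.img_le_iff.mp hki.le r hr
      exact ⟨⟨_, hR.1 hkr⟩, hkr, (qmap_apply (hR.1 hkr)).symm⟩
  rcases hall _ _ (inner_isNormalIn hTp hEs hRb) with h0 | ⟨h1, h2⟩
  · intro r hr
    have : θ ⟨r, hR.1 hr⟩ ∈ imageAlong θ R := ⟨_, hr, rfl⟩
    rw [h0, Subgroup.mem_bot] at this
    exact (hker _).mp this
  · exfalso
    apply hne
    have hh : E.hyperfocalSubgroup p ≤ ⊥ := by
      refine hyperfocal_le_of_coprime fun P hP α hα hcop x hx => ?_
      have hmem : α ∈ (innerFusionSystem (imageAlong θ R)).autGroup P := by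
        refine (isMap_autFun (hP.trans h1.ge)).mp ?_
        obtain ⟨φ, hφ, e⟩ := (isMap_autFun hP).mpr hα
        exact ⟨φ, (h2 P).symm ▸ hφ, e⟩
      rw [autGroup_inner (hP.trans h1.ge)] at hmem
      haveI : Finite (imageAlong θ R) := finite_of_le (le_top : _ ≤ (⊤ : Subgroup _))
      obtain ⟨i, hi⟩ := isPGroup_autInducedBy (hTp.of_injective _
        (Subgroup.inclusion_injective (le_top : imageAlong θ R ≤ ⊤))) P ⟨α, hmem⟩
      have hi' : α ^ p ^ i = 1 := congrArg Subtype.val hi
      have h1' : α = 1 := orderOf_eq_one_iff.mp (Nat.eq_one_of_dvd_coprimes (hcop.pow_right i)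
        dvd_rfl (orderOf_dvd_of_pow_eq_one hi'))
      rw [h1', autFun_one hx, inv_mul_cancel]
      exact Subgroup.one_mem _
    rw [hyperfocal_factor hS hF hZsc hE, hperf, Subgroup.subgroupOf_self,
      ← MonoidHom.range_eq_map, hrange] at hh
    exact le_bot_iff.mp hh

theorem centralizer_of_component {U : Subgroup Ω} {K : FusionSystem U} {S : Subgroup Ω}
    {F : FusionSystem S} (hK : K.IsSubnormalIn F p) :
    K.Quasisimple p → p.Prime → Finite S → IsPGroup p S → ∀ {R : Subgroup Ω}, F.IsNormal R →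
      U ≤ centralizerIn S R ∧ ∀ (P : Subgroup Ω) (f : Ω → Ω), IsMap K P f → FixExt F R P f := by
  induction hK with
  | @refl F p =>
    intro hq hp hfin hS R hR
    haveI := hfin
    haveI : Fact p.Prime := ⟨hp⟩
    have hRZ := le_center_of_quasisimple hS hq hR
    refine ⟨fun s hs => Fusion.mem_centralizerIn.mpr ⟨hs, fun r hr => ?_⟩, fun P f hf => ?_⟩
    · rw [comm_of_center (hRZ hr) s hs, mul_inv_cancel_right]
    · obtain ⟨k, hk, hkf, hkz⟩ := (isCentral_iff.mp isCentral_center).2 P f hf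
      exact ⟨k, hk.mono (sup_le_sup_left hRZ P), hkf, fun x hx => hkz x (hRZ hx)⟩
  | @step T S K D F p hKD hD ih =>
    intro hq hp hfin hS R hR
    haveI := hfin
    haveI : Fact p.Prime := ⟨hp⟩
    obtain ⟨hDs, hF, hinv⟩ := hD.1
    have hTS : T ≤ S := hinv.2.1.1
    haveI := finite_of_le hTS
    haveI := finite_of_le hR.1
    have hTp : IsPGroup p T := hS.of_injective _ (Subgroup.inclusion_injective hTS)
    obtain ⟨hUT₀, hIH⟩ := ih hq hp (finite_of_le hTS) hTp (isNormal_inf hS hD.1 hR)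
    have hUT : U ≤ T := hUT₀.trans inf_le_left
    have hUS : U ≤ S := hUT.trans hTS
    haveI := finite_of_le hUS
    have hUp : IsPGroup p U := hS.of_injective _ (Subgroup.inclusion_injective hUS)
    have hRsc := stronglyClosed_of_isNormal hR
    -- automorphisms of order prime to `p`
    have key : ∀ P : Subgroup Ω, P ≤ U → ∀ α ∈ K.autGroup P, (orderOf α).Coprime p →
        ∃ ν ∈ F.autGroup (P ⊔ R), (∀ x ∈ P, autFun ν x = autFun α x) ∧
          ∀ r ∈ R, autFun ν r = r := by
      intro P hP α hα hcop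
      have hPS := hP.trans hUS
      obtain ⟨δ, hδ, eδ, hδU⟩ := hIH P _ ((isMap_autFun hP).mpr hα)
      obtain ⟨γ, hγ, eγ, hγR⟩ := modExt hS hD hR hδ
      have hle : P ⊔ R ≤ P ⊔ (R ⊓ T) ⊔ R := sup_le_sup_right le_sup_left R
      have hγ' := hγ.mono hle
      have hγP : ∀ x ∈ P, γ x = autFun α x := fun x hx =>
        (eγ x (Subgroup.mem_sup_left hx)).trans (eδ x hx)
      have hγU : ∀ x ∈ R ⊓ T, γ x = x := fun x hx =>
        (eγ x (Subgroup.mem_sup_right hx)).trans (hδU x hx)
      have hBS : P ⊔ R ≤ S := sup_le hPS hR.1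
      haveI := finite_of_le hBS
      obtain ⟨μ, hμ, eμ⟩ := hγ'.exists_aut (by
        rw [hγ'.img_sup, img_congr hγP, img_autFun,
          img_eq_of_apply hγ' le_sup_right fun r hr => modExt_apply hγR hr])
      obtain ⟨e, he, heP⟩ := exists_coprime_agree hBS le_sup_left
        (fun x hx => (eμ x (Subgroup.mem_sup_left hx)).trans (hγP x hx)) hcop
      refine ⟨μ ^ e, pow_mem hμ e, heP, fun r hr => ?_⟩
      have hrB : r ∈ P ⊔ R := Subgroup.mem_sup_right hr
      have hμm : IsMap F (P ⊔ R) (autFun μ) := (isMap_autFun hBS).mpr hμ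
      set u := r⁻¹ * γ r
      have hu : u ∈ R ⊓ T := hγR r hr
      have huB : u ∈ P ⊔ R := Subgroup.mem_sup_right hu.1
      have hμu : autFun μ u = u := (eμ u huB).trans (hγU u hu)
      have hit : ∀ n : ℕ, autFun (μ ^ n) r = r * u ^ n := by
        intro n
        induction n with
        | zero => rw [pow_zero, pow_zero, autFun_one hrB, mul_one]
        | succ n ih =>
          rw [pow_succ', autFun_mul _ _ hrB, ih,
            hμm.map_mul hrB (Subgroup.pow_mem _ huB n), hμm.map_pow huB, hμu, eμ r hrB,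
            show γ r = r * u by simp only [u]; group, pow_succ', mul_assoc]
      rw [hit e]
      have h1 : autFun ((μ ^ e) ^ orderOf (μ ^ e)) r = r := by
        rw [pow_orderOf_eq_one, autFun_one hrB]
      rw [← pow_mul, hit] at h1
      have h2 : (u ^ e) ^ orderOf (μ ^ e) ∈ (⊥ : Subgroup Ω) := by
        rw [← pow_mul, Subgroup.mem_bot]
        exact mul_eq_left.mp h1
      obtain ⟨i, hi⟩ := exists_pow_eq_one hS (S.pow_mem (hR.1 hu.1) e)
      rw [Subgroup.mem_bot.mp (mem_of_pow_mem_coprime hi he h2), mul_one]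
    -- the subgroup
    have hUC : U ≤ centralizerIn S R := by
      refine le_inf hUS (hq.2.1.ge.trans (hyperfocal_le_of_coprime fun P hP α hα hcop x hx => ?_))
      obtain ⟨ν, hν, eν, hνR⟩ := key P hP α hα hcop
      refine Subgroup.mem_centralizer_iff.mpr fun r hr => ?_
      have hPS := hP.trans hUS
      have hxr : x * r * x⁻¹ ∈ R :=
        conj_mem_of_mem_normalizer (normalizes_of_stronglyClosed hRsc (hPS hx)) hr
      have h1 := ((isMap_autFun (sup_le hPS hR.1)).mpr hν).map_conj
        (Subgroup.mem_sup_left (T := R) hx) (Subgroup.mem_sup_right (S := P) hr)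
      rw [hνR _ hxr, hνR _ hr, eν x hx] at h1
      calc r * (x⁻¹ * autFun α x) = x⁻¹ * (x * r * x⁻¹) * autFun α x := by group
        _ = x⁻¹ * autFun α x * r := by rw [h1]; group
    refine ⟨hUC, fun P f hf => ?_⟩
    -- all maps
    have hcls : IsMapClass K (FixExt F R) :=
      { conj := fun P t hP ht => ⟨_, isMap_conj (sup_le (hP.trans hUS) hR.1) (hUS ht),
          fun _ _ => rfl, fun r hr => by
            show t * r * t⁻¹ = r
            exact (Fusion.mem_centralizerIn.mp (hUC ht)).2 r hr⟩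
        congr := fun P f f' _ e h => h.congr e
        mono := fun P Q f _ hQ h => by
          obtain ⟨k, hk, ek, hkR⟩ := h
          exact ⟨k, hk.mono (sup_le_sup_right hQ R), fun x hx => ek x (hQ hx), hkR⟩
        comp := fun P Q f g _ _ hfQ h h' => h.comp hfQ h'
        inv := fun P f g _ _ hl h => h.inv hl }
    have hsite : ∀ Q, K.IsFullyNormalized Q → ∀ α ∈ K.autGroup Q, FixExt F R Q (autFun α) := by
      intro Q hQn
      suffices hle : K.autGroup Q ≤ goodAut K (FixExt F R) hcls Q hQn.1 from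
        fun α hα => (hle hα).2
      refine PPower.autGroup_le_of hS hUS hq.1 hQn (autInducedBy_le_good hcls hQn.1)
        fun α hα hcop => ⟨hα, ?_⟩
      obtain ⟨ν, hν, eν, hνR⟩ := key Q hQn.1 α hα hcop
      exact ⟨autFun ν, (isMap_autFun (sup_le (hQn.1.trans hUS) hR.1)).mpr hν, eν, hνR⟩
    refine alperin_radical hUp hq.1 hcls (fun g hg => ?_)
      (fun Q _ hQn _ _ _ => hsite Q hQn) hf
    obtain ⟨α, hα, eα⟩ := hg.exists_aut (img_eq_of_apply hg le_rfl fun x hx => hg.mem_S hx)
    exact hcls.congr U _ g ((isMap_autFun le_rfl).mpr hα) (fun x hx => (eα x hx).symm)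
      (hsite U ⟨le_rfl, fun Q hQ => by
        obtain ⟨h, hh, rfl⟩ := isConj_iff.mp hQ
        rw [Subgroup.eq_of_le_of_card_ge hh.img_le hh.card_img.ge]⟩ α hα)

/-- The centralizer system of a normal subgroup is a normal subsystem. -/
theorem centralizerSystem_isNormalIn [Finite S] [Fact p.Prime] (hS : IsPGroup p S)
    (hF : F.IsSaturated p) (hR : F.IsNormal R) :
    (centralizerSystem F hR.1).IsNormalIn F p := by
  haveI := finite_of_le hR.1
  haveI : Finite (centralizerIn S R) := finite_of_le inf_le_left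
  have hI := inner_isNormalIn hS hF hR
  have hXS : centralizerIn S R ≤ S := inf_le_left
  have hadm : ∀ (P : Subgroup Ω) (φ : P →* Ω), φ ∈ (innerFusionSystem R).Hom P →
      φ ∈ F.centralizerHom (centralizerIn S R) P := fun P φ hφ => by
    obtain ⟨hP, g, hg, e⟩ := id hφ
    have hRC : R ≤ centralizerIn S (centralizerIn S R) := fun r hr =>
      Fusion.mem_centralizerIn.mpr ⟨hR.1 hr, fun c hc => by
        rw [← centralizerIn_comm hc hr, mul_inv_cancel_right]⟩
    refine mem_centralizerHom_iff.mpr ⟨hP.trans hRC, fun x => hRC ?_, hI.1.2.2.1 P hφ,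
      _, isMap_conj (sup_le (hP.trans hR.1) hXS) (hR.1 hg), fun x hx => ?_, fun c hc =>
        (Fusion.mem_centralizerIn.mp (hRC hg)).2 c hc⟩
    · rw [e]
      exact R.mul_mem (R.mul_mem hg (hP x.2)) (R.inv_mem hg)
    · rw [toFun'_apply_mem φ hx, e]
  obtain ⟨D, hD, hidx, -⟩ := exists_centralizer_subsystem hS hI
    ((adm_iff hI.1.2.2.1).mpr ⟨le_rfl, hadm⟩) fun Y hY => hY.1
  have hCT := saturated_centralizer hS hF
    (fullyCentralized_of_stronglyClosed (stronglyClosed_of_isNormal hR))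
    (isCentralizerSystem_centralizerSystem hR.1)
  have e : D = centralizerSystem F hR.1 := PPower.unique
    (hS.of_injective _ (Subgroup.inclusion_injective hXS)) le_rfl hD.1.1 hidx hCT
    (PPower.index_self _ p)
  exact e ▸ hD

/-- The largest normal subgroup centralizes the layer. -/
theorem layer_centralizes_core [Finite S] [Fact p.Prime] (hS : IsPGroup p S) (hF : F.IsSaturated p)
    {E : FusionSystem T} (hE : E.IsLayerOf F p) (P : Subgroup Ω) :
    E.Hom P ⊆ F.centralizerHom F.core P := by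
  refine fun φ hφ => hE.2.2 _ _ (centralizerSystem_isNormalIn hS hF isNormal_core)
    (fun U K hK Q ψ hψ => ?_) P hφ
  obtain ⟨hUC, hfix⟩ := centralizer_of_component hK.1 hK.2 Fact.out inferInstance hS
    (isNormal_core (F := F))
  have h := hfix Q _ (isMap_of_mem hψ)
  obtain ⟨k, hk, ek, -⟩ := id h
  refine mem_centralizerHom_iff.mpr ⟨(isMap_of_mem hψ).le.trans hUC,
    fun x => hUC ((K.le_of_mem hψ).2 x), ?_, h⟩
  exact (hk.mono le_sup_left).mem_of_agree fun x => ((ek x x.2).trans (toFun'_apply ψ x)).symm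

end Cfsg.Lib.Fusion.NormCent
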