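import Cfsg.Agent.Fusion.WeaklyNormalResidual

/-!
Preliminaries on automorphism groups inside an invariant subsystem.
-/

set_option autoImplicit false
set_option linter.unusedSectionVars false
set_option linter.style.haveILetI false

namespace Cfsg.Lib.Fusion.NormCent

open Cfsg Cfsg.FusionSystem Cfsg.Lib.Fusion

universe u

variable {Ω : Type u} [Group Ω] {S T : Subgroup Ω} {F : FusionSystem S} {E : FusionSystem T}
  {p : ℕ}

/-! ### Group theory -/

theorem mem_of_pow_mem_coprime {Q : Subgroup Ω} {x : Ω} {m k : ℕ} (hx : x ^ p ^ k = 1)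
    (hm : m.Coprime p) (h : x ^ m ∈ Q) : x ∈ Q := by
  obtain ⟨a, ha⟩ := exists_pow_eq_self_of_coprime
    ((hm.pow_right k).coprime_dvd_right (orderOf_dvd_of_pow_eq_one hx))
  rw [← ha]
  exact Q.pow_mem h a

theorem exists_pow_eq_one [Fact p.Prime] [Finite S] (hS : IsPGroup p S) {x : Ω} (hx : x ∈ S) :
    ∃ k : ℕ, x ^ p ^ k = 1 := by
  obtain ⟨k, hk⟩ := hS ⟨x, hx⟩
  exact ⟨k, by simpa using congrArg Subtype.val hk⟩

theorem exists_coprime_power {G : Type*} [Group G] [Finite G] [Fact p.Prime] (g : G) {n : ℕ}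
    (hn : n.Coprime p) : ∃ e : ℕ, (orderOf (g ^ e)).Coprime p ∧ e ≡ 1 [MOD n] := by
  obtain ⟨k, m, hm, ho⟩ :=
    Nat.exists_eq_pow_mul_and_not_dvd (orderOf_pos g).ne' p (Fact.out : p.Prime).ne_one
  obtain ⟨e, he0, he1⟩ := Nat.chineseRemainder ((Nat.Coprime.pow_left k hn.symm)) 0 1
  refine ⟨e, ?_, he1⟩
  obtain ⟨c, hc⟩ := Nat.modEq_zero_iff_dvd.mp he0
  have h1 : (g ^ e) ^ m = 1 := by
    rw [← pow_mul, hc, show p ^ k * c * m = p ^ k * m * c by ring, ← ho, pow_mul,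
      pow_orderOf_eq_one, one_pow]
  exact Nat.Coprime.coprime_dvd_left (orderOf_dvd_of_pow_eq_one h1)
    ((Fact.out : p.Prime).coprime_iff_not_dvd.mpr hm).symm

theorem eq_top_of_coprime_mem {G : Type*} [Group G] [Finite G] [Fact p.Prime] (H : Subgroup G)
    (P : Sylow p G) (hP : (P : Subgroup G) ≤ H) (h : ∀ g, (orderOf g).Coprime p → g ∈ H) :
    H = ⊤ := by
  rw [← Subgroup.index_eq_one, Nat.eq_one_iff_not_exists_prime_dvd]
  intro q hq hd
  haveI := Fact.mk hq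
  by_cases hqp : q = p
  · subst hqp
    exact P.not_dvd_index (hd.trans (Subgroup.index_dvd_of_le hP))
  · have R : Sylow q G := Classical.arbitrary _
    refine R.not_dvd_index (hd.trans (Subgroup.index_dvd_of_le fun g hg => h g ?_))
    obtain ⟨i, hi⟩ := IsPGroup.iff_orderOf.mp R.2 ⟨g, hg⟩
    rw [← Subgroup.orderOf_coe] at hi
    show (orderOf g).Coprime p
    rw [show orderOf g = q ^ i from hi]
    exact Nat.Coprime.pow_left i ((Nat.coprime_primes hq Fact.out).mpr hqp)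

theorem le_normalizer_of_conj {G : Type*} [Group G] {H K : Subgroup G}
    (h : ∀ k ∈ K, ∀ x ∈ H, k * x * k⁻¹ ∈ H) : K ≤ Subgroup.normalizer (H : Set G) := fun k hk => by
  rw [Subgroup.mem_normalizer_iff]
  refine fun x => ⟨h k hk x, fun hx => ?_⟩
  simpa [mul_assoc] using h k⁻¹ (K.inv_mem hk) _ hx

/-! ### Centralizers -/

theorem centralizerIn_anti {P R : Subgroup Ω} (h : P ≤ R) :
    centralizerIn S R ≤ centralizerIn S P := fun _ hc =>
  Fusion.mem_centralizerIn.mpr ⟨hc.1, fun x hx => (Fusion.mem_centralizerIn.mp hc).2 x (h hx)⟩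

theorem centralizerIn_comm {P : Subgroup Ω} {c x : Ω} (hc : c ∈ centralizerIn S P) (hx : x ∈ P) :
    c * x = x * c :=
  eq_mul_of_mul_inv_eq ((Fusion.mem_centralizerIn.mp hc).2 x hx)

theorem le_normalizer_centralizerIn {P : Subgroup Ω} :
    P ≤ Subgroup.normalizer (centralizerIn S P : Set Ω) :=
  le_normalizer_of_conj fun x hx c hc => by
    rwa [← centralizerIn_comm hc hx, mul_inv_cancel_right]

theorem mem_sup_centralizerIn {P : Subgroup Ω} {y : Ω} :
    y ∈ P ⊔ centralizerIn S P ↔ ∃ a ∈ P, ∃ c ∈ centralizerIn S P, a * c = y := by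
  rw [← SetLike.mem_coe, Subgroup.coe_mul_of_left_le_normalizer_right _ _
    le_normalizer_centralizerIn, Set.mem_mul]
  rfl

theorem mem_sup_zpowers {P : Subgroup Ω} {y z : Ω} (hy : y ∈ centralizerIn S P)
    (hz : z ∈ P ⊔ Subgroup.zpowers y) : ∃ a ∈ P, ∃ i : ℤ, a * y ^ i = z := by
  have hn : Subgroup.zpowers y ≤ Subgroup.normalizer (P : Set Ω) :=
    Subgroup.zpowers_le.mpr (centralizerIn_le_normalizerIn P hy).2
  rw [← SetLike.mem_coe, Subgroup.coe_mul_of_right_le_normalizer_left _ _ hn] at hz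
  obtain ⟨a, ha, b, ⟨i, rfl⟩, rfl⟩ := hz
  exact ⟨a, ha, i, rfl⟩

/-! ### Automorphisms in the subsystem -/

/-- Automorphisms of the subsystem are carried to automorphisms of the subsystem. -/
theorem congr_mem_sub (hE : E.IsInvariantIn F) {Q Q' : Subgroup Ω} (hQT : Q ≤ T) {f : Ω → Ω}
    (hf : IsMap F Q f) (hi : img Q f = Q') {α : MulAut Q} (hα : α ∈ E.autGroup Q) :
    MulAut.congr (hf.equiv hi) α ∈ E.autGroup Q' := by
  have hQ'T : Q' ≤ T := hi ▸ IsMap.img_le_iff.mpr fun x hx =>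
    stronglyClosed_apply hE.2.1 hf hx (hQT hx)
  have h1 := strongInv_of_invariant hE Q Q le_rfl hQT (autFun α) ((isMap_autFun hQT).mpr hα)
    (fun x hx => autFun_mem α hx) f hf (autFun (MulAut.congr (hf.equiv hi) α))
    fun x hx => congr_equiv_spec hf hi α hx
  rw [hi] at h1
  exact (isMap_autFun hQ'T).mp h1

/-- Maps of the subsystem are carried to maps of the subsystem. -/
theorem exists_conj_sub (hE : E.IsInvariantIn F) {Q : Subgroup Ω} (hQT : Q ≤ T) {f : Ω → Ω}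
    (hf : IsMap F Q f) (hi : img Q f = Q) {α : MulAut Q} (hα : α ∈ E.autGroup Q) :
    ∃ β ∈ E.autGroup Q, ∀ x ∈ Q, autFun β (f x) = f (autFun α x) :=
  ⟨_, congr_mem_sub hE hQT hf hi hα, fun _ hx => congr_equiv_spec hf hi α hx⟩

/-- Fully normalized in the system implies fully normalized in the subsystem. -/
theorem fullyNormalized_sub [Finite S] [Fact p.Prime] (hS : IsPGroup p S) (hF : F.IsSaturated p)
    (hE : E.IsInvariantIn F) {Q : Subgroup Ω} (hQT : Q ≤ T) (hQ : F.IsFullyNormalized Q) :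
    E.IsFullyNormalized Q := by
  have hsc := hE.2.1
  haveI := finite_of_le hsc.1
  obtain ⟨-, hfa, hrec⟩ := fullyNormalized_props hS hF hQ
  refine ⟨hQT, fun R hR => ?_⟩
  obtain ⟨r, hr, hri⟩ := isConj_iff.mp (isConj_symm hR)
  obtain ⟨-, -, h, hh, -, -, hhN⟩ :=
    exists_map_normalizer hS hfa hrec (CharSub.isMap_of_sub hE.1 hr) hri
  refine card_le_of_isMap hh (fun x hx => ⟨hsc.1 hx.1, hx.2⟩) (inf_le_left.trans hsc.1) fun x hx =>
    ⟨stronglyClosed_apply hsc hh ⟨hsc.1 hx.1, hx.2⟩ hx.1, (hhN x ⟨hsc.1 hx.1, hx.2⟩).2⟩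

/-- A `p`-group of automorphisms becomes induced on a receptive conjugate. -/
theorem exists_map_realize [Finite S] [Fact p.Prime] (hF : F.IsSaturated p)
    {P : Subgroup Ω} (hP : P ≤ S) {K : Subgroup (MulAut P)} (hK : IsPGroup p K)
    (hKle : K ≤ F.autGroup P) :
    ∃ P' f, IsMap F P f ∧ img P f = P' ∧ F.IsReceptive P' ∧
      ∀ γ ∈ K, ∃ s ∈ S, ∀ x ∈ P, f (autFun γ x) = s * f x * s⁻¹ := by
  obtain ⟨P', hPP', hfa, hrec⟩ := hF P hP
  obtain ⟨f₀, hf₀, hi₀⟩ := isConj_iff.mp hPP'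
  have hP' : P' ≤ S := hrec.1
  obtain ⟨χ, hχ, hχK⟩ := exists_conj_into_autS hfa
    (hK.map (MulAut.congr (hf₀.equiv hi₀)).toMonoidHom)
    (by rw [← map_congr_autGroup hf₀ hi₀]; exact Subgroup.map_mono hKle)
  have hmem₀ : ∀ x ∈ P, f₀ x ∈ P' := fun x hx => hi₀ ▸ IsMap.apply_mem_img hx
  refine ⟨P', autFun χ ∘ f₀, hf₀.comp ((isMap_autFun hP').mpr hχ) hmem₀, ?_, hrec, fun γ hγ => ?_⟩
  · subst hi₀
    rw [img_comp hf₀ ((isMap_autFun hP').mpr hχ), img_autFun]
  · obtain ⟨s, hs, es⟩ := mem_autInducedBy.mp (hχK _ ⟨γ, hγ, rfl⟩)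
    refine ⟨s, hs, fun x hx => ?_⟩
    have := es ⟨autFun χ (f₀ x), autFun_mem χ (hmem₀ x hx)⟩
    rw [← autFun_apply (χ * (MulAut.congr (hf₀.equiv hi₀)).toMonoidHom γ * χ⁻¹),
      ← autFun_mul _ χ (hmem₀ x hx), inv_mul_cancel_right, autFun_mul _ _ (hmem₀ x hx)] at this
    show autFun χ (f₀ (autFun γ x)) = _
    rw [← congr_equiv_spec hf₀ hi₀ γ hx]
    exact this

/-- An automorphism group closed under products is closed under inverses. -/
theorem inv_mem_of_pow {G : Type*} [Group G] [Finite G] {good : G → Prop} {a : G}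
    (h : ∀ n : ℕ, good (a ^ n)) : good a⁻¹ := by
  have h1 : a⁻¹ = a ^ (orderOf a - 1) := by
    refine inv_eq_of_mul_eq_one_left ?_
    rw [← pow_succ, Nat.sub_add_cancel (orderOf_pos a), pow_orderOf_eq_one]
  exact h1 ▸ h _

theorem finite_mulAut (P : Subgroup Ω) [Finite P] : Finite (MulAut P) :=
  Finite.of_injective (fun f : MulAut P => (f : P → P)) DFunLike.coe_injective

end Cfsg.Lib.Fusion.NormCent
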