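import Cfsg.Agent.Fusion.NormalCentralizer.Fixed
import Cfsg.Agent.Fusion.CentricMeet

/-!
The centralizer in `S` of a normal subsystem.
-/

set_option autoImplicit false
set_option linter.unusedSectionVars false
set_option linter.style.haveILetI false

namespace Cfsg.Lib.Fusion.NormCent

open Cfsg Cfsg.FusionSystem Cfsg.Lib.Fusion

universe u

variable {Ω : Type u} [Group Ω] {S T : Subgroup Ω} {F : FusionSystem S} {E : FusionSystem T}
  {p : ℕ}

/-- The maps of `E` extend to maps fixing `Y`. -/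
def Adm (F : FusionSystem S) (E : FusionSystem T) (Y : Subgroup Ω) : Prop :=
  Y ≤ centralizerIn S T ∧ ∀ (P : Subgroup Ω) (f : Ω → Ω), IsMap E P f →
    ∃ g, IsMap F (P ⊔ Y) g ∧ (∀ x ∈ P, g x = f x) ∧ ∀ y ∈ Y, g y = y

theorem adm_iff {Y : Subgroup Ω} (hE : E.IsSubsystemOf F) :
    Adm F E Y ↔ Y ≤ centralizerIn S T ∧ ∀ P : Subgroup Ω, E.Hom P ⊆ F.centralizerHom Y P := by
  refine and_congr_right fun hY => ⟨fun h P φ hφ => ?_, fun h P f hf => ?_⟩
  · obtain ⟨g, hg, eg, hgy⟩ := h P _ (isMap_of_mem hφ)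
    obtain ⟨ψ, hψ, eψ⟩ := hg
    have hP := E.le_of_mem hφ
    have hc : ∀ x ∈ T, x ∈ S → x ∈ centralizerIn S Y := fun x hx hxS =>
      Fusion.mem_centralizerIn.mpr ⟨hxS, fun y hy => by
        rw [← centralizerIn_comm (hY hy) hx, mul_inv_cancel_right]⟩
    have hF := F.le_of_mem (hE P hφ)
    refine ⟨hE P hφ, fun x hx => hc x (hP.1 hx) (hF.1 hx), fun x => hc _ (hP.2 x) (hF.2 x),
      ψ, hψ, fun x => ?_, fun x => ?_⟩
    · rw [eψ]
      exact (eg x x.2).trans (toFun'_apply φ x)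
    · rw [eψ]
      exact hgy x x.2
  · obtain ⟨φ, hφ, e⟩ := hf
    obtain ⟨-, -, -, ψ, hψ, hψP, hψY⟩ := h P hφ
    refine ⟨toFun' ψ, isMap_of_mem hψ, fun x hx => ?_, fun y hy => ?_⟩
    · rw [toFun'_apply_mem _ (Subgroup.mem_sup_left hx), ← e ⟨x, hx⟩]
      exact hψP ⟨x, hx⟩
    · rw [toFun'_apply_mem _ (Subgroup.mem_sup_right hy)]
      exact hψY ⟨y, hy⟩

theorem fix_sup {R A B : Subgroup Ω} {g : Ω → Ω} (hg : IsMap F R g) (hA : A ≤ R) (hB : B ≤ R)
    (ha : ∀ x ∈ A, g x = x) (hb : ∀ x ∈ B, g x = x) : ∀ x ∈ A ⊔ B, g x = x := by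
  let K : Subgroup Ω :=
    { carrier := {x | x ∈ R ∧ g x = x}
      one_mem' := ⟨R.one_mem, hg.map_one⟩
      mul_mem' := fun {a b} h h' => ⟨R.mul_mem h.1 h'.1, by rw [hg.map_mul h.1 h'.1, h.2, h'.2]⟩
      inv_mem' := fun {a} h => ⟨R.inv_mem h.1, by rw [hg.map_inv h.1, h.2]⟩ }
  have : A ⊔ B ≤ K := sup_le (fun x hx => ⟨hA hx, ha x hx⟩) fun x hx => ⟨hB hx, hb x hx⟩
  exact fun x hx => (this hx).2

theorem Adm.mono {Y Y' : Subgroup Ω} (h : Adm F E Y) (hY : Y' ≤ Y) : Adm F E Y' :=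
  ⟨hY.trans h.1, fun P f hf =>
    let ⟨g, hg, e, hy⟩ := h.2 P f hf
    ⟨g, hg.mono (sup_le_sup_left hY P), e, fun y h' => hy y (hY h')⟩⟩

theorem adm_bot [Finite S] (hE : E.IsSubsystemOf F) : Adm F E ⊥ :=
  ⟨bot_le, fun P f hf => by
    have hm := isMap_of_le' hE hf
    exact ⟨f, by rwa [sup_bot_eq], fun _ _ => rfl, fun y hy => by
      rw [Subgroup.mem_bot.mp hy]; exact hf.map_one⟩⟩
where
  isMap_of_le' {P : Subgroup Ω} {f : Ω → Ω} (hE : E.IsSubsystemOf F) (hf : IsMap E P f) :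
      IsMap F P f := CharSub.isMap_of_sub hE hf

/-- The class of the maps extendable by the identity on `Y`. -/
theorem isMapClass_fixing [Finite S] (hTS : T ≤ S) {Y : Subgroup Ω}
    (hY : Y ≤ centralizerIn S T) :
    IsMapClass E (fun P f => ∃ g, IsMap F (P ⊔ Y) g ∧ (∀ x ∈ P, g x = f x) ∧
      ∀ y ∈ Y, g y = y) where
  conj P t hP ht := ⟨_, isMap_conj (sup_le (hP.trans hTS) (hY.trans inf_le_left)) (hTS ht),
    fun _ _ => rfl, fun y hy => WeaklyNormal.conj_of_mem (hY hy) ht⟩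
  congr P f f' _ e h :=
    let ⟨g, hg, eg, hy⟩ := h
    ⟨g, hg, fun x hx => (eg x hx).trans (e x hx).symm, hy⟩
  mono P R f _ hR h :=
    let ⟨g, hg, eg, hy⟩ := h
    ⟨g, hg.mono (sup_le_sup_right hR Y), fun x hx => eg x (hR hx), hy⟩
  comp P Q f g _ _ hfQ h h' := by
    obtain ⟨f₁, hf₁, ef, hfy⟩ := h
    obtain ⟨g₁, hg₁, eg, hgy⟩ := h'
    have hle : img (P ⊔ Y) f₁ ≤ Q ⊔ Y := by
      rw [hf₁.img_sup]
      exact sup_le_sup (IsMap.img_le_iff.mpr fun x hx => ef x hx ▸ hfQ x hx)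
        (IsMap.img_le_iff.mpr fun y hy => (hfy y hy).symm ▸ hy)
    refine ⟨g₁ ∘ f₁, hf₁.comp hg₁ fun x hx => hle (IsMap.apply_mem_img hx), fun x hx => ?_,
      fun y hy => ?_⟩
    · show g₁ (f₁ x) = g (f x)
      rw [ef x hx, eg _ (hfQ x hx)]
    · show g₁ (f₁ y) = y
      rw [hfy y hy, hgy y hy]
  inv P f k hf _ hl h := by
    obtain ⟨g, hg, eg, hgy⟩ := h
    obtain ⟨k', hk', -, hkl, -⟩ := hg.exists_inv
    have hle : img P f ⊔ Y ≤ img (P ⊔ Y) g :=
      sup_le (IsMap.img_le_iff.mpr fun x hx => eg x hx ▸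
        IsMap.apply_mem_img (Subgroup.mem_sup_left hx)) fun y hy => by
        rw [← hgy y hy]
        exact IsMap.apply_mem_img (Subgroup.mem_sup_right hy)
    refine ⟨k', hk'.mono hle, fun x hx => ?_, fun y hy => ?_⟩
    · obtain ⟨x, hx', rfl⟩ := hf.mem_img.mp hx
      rw [hl x hx', ← eg x hx', hkl x (Subgroup.mem_sup_left hx')]
    · have := hkl y (Subgroup.mem_sup_right hy)
      rwa [hgy y hy] at this

/-- Pulling back a lift which fixes the image of `Y`. -/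
theorem ext_of_fixed [Finite S] {Y Q Q' : Subgroup Ω} {α : MulAut Q} {f : Ω → Ω}
    (hf : IsMap F (Q ⊔ Y) f) (hfQ : IsMap F Q f) (hi : img Q f = Q')
    (hY : Y ≤ centralizerIn S Q) {δ : MulAut (Q' ⊔ centralizerIn S Q' : Subgroup Ω)}
    (hδ : δ ∈ F.autGroup (Q' ⊔ centralizerIn S Q'))
    (hδQ : ∀ x ∈ Q', autFun δ x = autFun (MulAut.congr (hfQ.equiv hi) α) x)
    (hfix : ∀ y ∈ Y, autFun δ (f y) = f y) :
    ∃ g, IsMap F (Q ⊔ Y) g ∧ (∀ x ∈ Q, g x = autFun α x) ∧ ∀ y ∈ Y, g y = y := by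
  have hfY : ∀ y ∈ Y, f y ∈ centralizerIn S Q' := fun y hy => by
    rw [← hi]
    exact hf.mem_centralizerIn le_sup_left (Subgroup.mem_sup_right hy) (hY hy)
  have hδm : IsMap F (Q' ⊔ centralizerIn S Q') (autFun δ) :=
    (isMap_autFun (sup_le (hi ▸ hfQ.img_le) inf_le_left)).mpr hδ
  set R := img (Q ⊔ Y) f
  obtain ⟨k, hk, -, hkl, -⟩ := hf.exists_inv
  have hR : R ≤ Q' ⊔ centralizerIn S Q' := by
    simp only [R]
    rw [hf.img_sup, hi]
    exact sup_le_sup_left (IsMap.img_le_iff.mpr hfY) _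
  have hδR : img R (autFun δ) ≤ R := by
    simp only [R]
    rw [hf.img_sup, (hδm.mono (hf.img_sup.ge.trans hR)).img_sup, hi]
    refine sup_le_sup (le_of_eq ((img_congr hδQ).trans (img_autFun _))) ?_
    refine IsMap.img_le_iff.mpr fun z hz => ?_
    obtain ⟨u, hu, rfl⟩ := (hf.mono le_sup_right).mem_img.mp hz
    rw [hfix u hu]
    exact IsMap.apply_mem_img hu
  refine ⟨k ∘ (autFun δ ∘ f), ((hf.comp (hδm.mono hR) fun x hx => IsMap.apply_mem_img hx).comp hk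
    fun x hx => hδR (IsMap.apply_mem_img (IsMap.apply_mem_img hx))), fun x hx => ?_, fun y hy => ?_⟩
  · show k (autFun δ (f x)) = _
    rw [hδQ _ (hi ▸ IsMap.apply_mem_img hx), congr_equiv_spec hfQ hi α hx,
      hkl _ (Subgroup.mem_sup_left (autFun_mem α hx))]
  · show k (autFun δ (f y)) = y
    rw [hfix y hy, hkl y (Subgroup.mem_sup_right hy)]

/-- An automorphism of order prime to `p` of a centric subgroup extends fixing the join. -/
theorem coprime_fixing [Finite S] [Fact p.Prime] (hS : IsPGroup p S) (hE : E.IsNormalIn F p)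
    {Y₁ Y₂ : Subgroup Ω} (h₁ : Adm F E Y₁) (h₂ : Adm F E Y₂) {Q : Subgroup Ω}
    (hQc : E.IsCentric Q) {α : MulAut Q} (hα : α ∈ E.autGroup Q)
    (hαp : (orderOf α).Coprime p) :
    ∃ g, IsMap F (Q ⊔ (Y₁ ⊔ Y₂)) g ∧ (∀ x ∈ Q, g x = autFun α x) ∧
      ∀ y ∈ Y₁ ⊔ Y₂, g y = y := by
  obtain ⟨hW, -⟩ := id hE
  obtain ⟨hEs, hF, hinv⟩ := hW
  have hTS : T ≤ S := hinv.2.1.1
  have hQT : Q ≤ T := hQc.1
  have hQS : Q ≤ S := hQT.trans hTS
  haveI := finite_of_le hQS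
  obtain ⟨Q', hQQ', hQ'⟩ := exists_fullyNormalized (F := F) hQS
  obtain ⟨f₀, hf₀, hi₀⟩ := isConj_iff.mp hQQ'
  obtain ⟨hfc, hfa, hrec⟩ := fullyNormalized_props hS hF hQ'
  obtain ⟨-, -, f, hf, hi, -, -⟩ := exists_map_normalizer hS hfa hrec hf₀ hi₀
  set Y := Y₁ ⊔ Y₂
  have hY : Y ≤ centralizerIn S Q := (sup_le h₁.1 h₂.1).trans (centralizerIn_anti hQT)
  have hQN : Q ≤ normalizerIn S Q := le_normalizerIn hQS
  have hYN : Y ≤ normalizerIn S Q := hY.trans (centralizerIn_le_normalizerIn Q)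
  have hfQY : IsMap F (Q ⊔ Y) f := hf.mono (sup_le hQN hYN)
  have hfQ : IsMap F Q f := hf.mono hQN
  have hQ'c : E.IsCentric Q' := hi ▸ CharSub.centricT_img hinv hQc hfQ
  set α' := MulAut.congr (hfQ.equiv hi) α
  have hα' : α' ∈ E.autGroup Q' := congr_mem_sub hinv hQT hfQ hi hα
  have hα'p : (orderOf α').Coprime p := by
    have e := orderOf_injective (MulAut.congr (hfQ.equiv hi)).toMonoidHom
      (MulAut.congr (hfQ.equiv hi)).injective α
    exact e.symm ▸ hαp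
  obtain ⟨δ, hδ, hδp, hδQ, hδc⟩ :=
    exists_coprime_lift (lift_of_fullyCentralized hS hE hQ'c hfc hα') hα'p
  have hXS : Q' ⊔ centralizerIn S Q' ≤ S := sup_le hfc.1 inf_le_left
  have hδm : IsMap F (Q' ⊔ centralizerIn S Q') (autFun δ) := (isMap_autFun hXS).mpr hδ
  have hfY : ∀ y ∈ Y, f y ∈ centralizerIn S Q' := fun y hy => by
    rw [← hi]
    exact hfQY.mem_centralizerIn le_sup_left (Subgroup.mem_sup_right hy) (hY hy)
  have fixes : ∀ Z : Subgroup Ω, Adm F E Z → Z ≤ Y → ∀ y ∈ Z, autFun δ (f y) = f y := by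
    intro Z hZ hZY y hy
    obtain ⟨γ, hγ, eγ, hγy⟩ := hZ.2 Q _ ((isMap_autFun hQT).mpr hα)
    have hfZ : IsMap F (Q ⊔ Z) f := hfQY.mono (sup_le_sup_left hZY Q)
    obtain ⟨k, hk, -, hkl, -⟩ := hfZ.exists_inv
    have hB : Q' ⊔ Subgroup.zpowers (f y) ≤ img (Q ⊔ Z) f :=
      sup_le (hi ▸ img_mono le_sup_left f) (Subgroup.zpowers_le.mpr
        (IsMap.apply_mem_img (Subgroup.mem_sup_right hy)))
    have hγZ : ∀ x ∈ Q ⊔ Z, γ x ∈ Q ⊔ Z := by
      intro x hx
      have h1 : img (Q ⊔ Z) γ ≤ Q ⊔ Z := by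
        rw [hγ.img_sup]
        exact sup_le_sup (IsMap.img_le_iff.mpr fun x hx => eγ x hx ▸ autFun_mem α hx)
          (IsMap.img_le_iff.mpr fun z hz => (hγy z hz).symm ▸ hz)
      exact h1 (IsMap.apply_mem_img hx)
    have hkm : ∀ x ∈ Q' ⊔ Subgroup.zpowers (f y), k x ∈ Q ⊔ Z := fun x hx => by
      obtain ⟨u, hu, rfl⟩ := hfZ.mem_img.mp (hB hx)
      rwa [hkl u hu]
    have hyC := hfY y (hZY hy)
    have hsub : Q' ⊔ Subgroup.zpowers (f y) ≤ Q' ⊔ centralizerIn S Q' :=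
      sup_le_sup_left (Subgroup.zpowers_le.mpr hyC) _
    refine fix_of_coprime (γ := f ∘ (γ ∘ k)) (m := orderOf δ) hS hE hQ'c hyC hα'
      (((hk.mono hB).comp hγ hkm).comp hfZ fun x hx => hγZ _ (hkm x hx)) (fun x hx => ?_) ?_
      (hδm.mono hsub) hδQ (hδc _ hyC) hδp ?_
    · obtain ⟨u, hu, rfl⟩ := hfQ.mem_img.mp (hi.symm ▸ hx : x ∈ img Q f)
      show f (γ (k (f u))) = _
      rw [hkl u (Subgroup.mem_sup_left hu), eγ u hu, congr_equiv_spec hfQ hi α hu]
    · show f (γ (k (f y))) = f y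
      rw [hkl y (Subgroup.mem_sup_right hy), hγy y hy]
    · rw [iterate_autFun δ (Subgroup.mem_sup_right hyC), pow_orderOf_eq_one,
        autFun_one (Subgroup.mem_sup_right hyC)]
  have hR : img (Q ⊔ Y) f ≤ Q' ⊔ centralizerIn S Q' := by
    rw [hfQY.img_sup, hi]
    exact sup_le_sup_left (IsMap.img_le_iff.mpr hfY) _
  have hfixY : ∀ y ∈ Y₁ ⊔ Y₂, autFun δ (f y) = f y := fun y hy => by
    have hall : ∀ z ∈ img Y₁ f ⊔ img Y₂ f, autFun δ z = z := by
      refine fix_sup hδm ?_ ?_ (fun z hz => ?_) (fun z hz => ?_)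
      · exact (img_mono (le_sup_left.trans le_sup_right) f).trans hR
      · exact (img_mono (le_sup_right.trans le_sup_right) f).trans hR
      · obtain ⟨u, hu, rfl⟩ :=
          (hfQY.mono (le_sup_left.trans le_sup_right)).mem_img.mp hz
        exact fixes Y₁ h₁ le_sup_left u hu
      · obtain ⟨u, hu, rfl⟩ :=
          (hfQY.mono (le_sup_right.trans le_sup_right)).mem_img.mp hz
        exact fixes Y₂ h₂ le_sup_right u hu
    rw [← IsMap.img_sup (hfQY.mono le_sup_right)] at hall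
    exact hall _ (IsMap.apply_mem_img hy)
  exact ext_of_fixed hfQY hfQ hi hY hδ hδQ hfixY

/-- It suffices to treat the automorphisms of order prime to `p`. -/
theorem adm_of_coprime [Finite S] [Fact p.Prime] (hS : IsPGroup p S) (hE : E.IsNormalIn F p)
    {Y : Subgroup Ω} (hY : Y ≤ centralizerIn S T)
    (h : ∀ {Q : Subgroup Ω}, E.IsCentric Q → ∀ {α : MulAut Q}, α ∈ E.autGroup Q →
      (orderOf α).Coprime p →
      ∃ g, IsMap F (Q ⊔ Y) g ∧ (∀ x ∈ Q, g x = autFun α x) ∧ ∀ y ∈ Y, g y = y) :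
    Adm F E Y := by
  obtain ⟨hEs, hF, hinv⟩ := hE.1
  have hTS : T ≤ S := hinv.2.1.1
  haveI := finite_of_le hTS
  have hTp : IsPGroup p T := hS.of_injective _ (Subgroup.inclusion_injective hTS)
  have hclass := isMapClass_fixing (E := E) (F := F) hTS hY
  have haut : ∀ Q : Subgroup Ω, E.IsCentric Q → E.IsFullyNormalized Q → ∀ α ∈ E.autGroup Q,
      ∃ g, IsMap F (Q ⊔ Y) g ∧ (∀ x ∈ Q, g x = autFun α x) ∧ ∀ y ∈ Y, g y = y := by
    intro Q hQc hQn α hα
    haveI := finite_of_le (hQc.1.trans hTS)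
    set G := E.autGroup Q
    haveI := finite_mulAut Q
    obtain ⟨-, P, hP⟩ := (fullyNormalized_props hTp hEs hQn).2.1
    have htop : (goodAut E _ hclass Q hQc.1).subgroupOf G = ⊤ := by
      refine eq_top_of_coprime_mem (p := p) _ P ?_ fun g hg =>
        ⟨g.2, h hQc (α := (g : MulAut Q)) g.2 (by rwa [Subgroup.orderOf_coe])⟩
      rw [hP]
      exact Subgroup.comap_mono (autInducedBy_le_good hclass hQc.1)
    have hmem : (⟨α, hα⟩ : G) ∈ (goodAut E _ hclass Q hQc.1).subgroupOf G := by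
      rw [htop]; trivial
    exact hmem.2
  refine ⟨hY, fun P f hf => alperin_induction hTp hEs hclass (fun g hg => ?_)
    (fun Q _ hQn hQc _ α hα => haut Q hQc hQn α hα) hf⟩
  obtain ⟨α, hα, eα⟩ := hg.exists_aut (img_eq_of_apply hg le_rfl fun x hx => hg.mem_S hx)
  haveI : Finite (normalizerIn T T) := finite_of_le (inf_le_left.trans hTS)
  have hTn : E.IsFullyNormalized T := ⟨le_rfl, fun R _ =>
    (Subgroup.card_le_of_le inf_le_left).trans (Subgroup.card_le_of_le (le_normalizerIn le_rfl))⟩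
  exact hclass.congr T _ g ((isMap_autFun le_rfl).mpr hα) (fun x hx => (eα x hx).symm)
    (haut T (CharSub.centric_top hinv) hTn α hα)

/-- The join of two admissible subgroups is admissible. -/
theorem Adm.sup [Finite S] [Fact p.Prime] (hS : IsPGroup p S) (hE : E.IsNormalIn F p)
    {Y₁ Y₂ : Subgroup Ω} (h₁ : Adm F E Y₁) (h₂ : Adm F E Y₂) : Adm F E (Y₁ ⊔ Y₂) :=
  adm_of_coprime hS hE (sup_le h₁.1 h₂.1) fun hQ _ hα hαp => coprime_fixing hS hE h₁ h₂ hQ hα hαp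

/-- The largest admissible subgroup. -/
theorem exists_largest [Finite S] [Fact p.Prime] (hS : IsPGroup p S) (hE : E.IsNormalIn F p) :
    ∃ C, Adm F E C ∧ ∀ Y, Adm F E Y → Y ≤ C := by
  have hfin : {Y : Subgroup Ω | Adm F E Y}.Finite :=
    finite_subgroups_le.subset fun Y hY => hY.1.trans inf_le_left
  obtain ⟨C, hC, hmax⟩ := hfin.exists_maximalFor id _ ⟨⊥, adm_bot hE.1.2.2.1⟩
  exact ⟨C, hC, fun Y hY => le_sup_right.trans (hmax (Adm.sup hS hE hC hY) le_sup_left)⟩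

/-- Images of admissible subgroups under maps defined on `T` are admissible. -/
theorem Adm.img [Finite S] (hinv : E.IsInvariantIn F) {Y R : Subgroup Ω} (hY : Adm F E Y)
    {f : Ω → Ω} (hf : IsMap F R f) (hTR : T ≤ R) (hYR : Y ≤ R) : Adm F E (img Y f) := by
  have hsc := hinv.2.1
  haveI := finite_of_le hsc.1
  have hfT : Fusion.img T f = T :=
    img_eq_of_apply hf hTR fun x hx => stronglyClosed_apply hsc hf (hTR hx) hx
  obtain ⟨k, hk, -, hkl, hkr⟩ := hf.exists_inv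
  have hTi : T ≤ Fusion.img R f := hfT ▸ img_mono hTR f
  have hkT : ∀ x ∈ T, k x ∈ T := fun x hx => stronglyClosed_apply hsc hk (hTi hx) hx
  refine ⟨IsMap.img_le_iff.mpr fun y hy => ?_, fun P φ hφ => ?_⟩
  · have := hf.mem_centralizerIn hTR (hYR hy) (hY.1 hy)
    rwa [hfT] at this
  · have hPT : P ≤ T := hφ.le
    have h0 : IsMap E (Fusion.img P k) (k ∘ (φ ∘ f)) :=
      strongInv_of_invariant hinv P T hPT le_rfl φ hφ (fun x hx => hφ.mem_S hx) k
        (hk.mono hTi) _ fun x hx => by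
          show k (φ (f (k x))) = k (φ x)
          rw [hkr x (hTi (hPT hx))]
    obtain ⟨g, hg, eg, hgy⟩ := hY.2 _ _ h0
    have hle : P ⊔ Fusion.img Y f ≤ Fusion.img R f :=
      sup_le (hPT.trans hTi) (img_mono hYR f)
    have hkm : ∀ z ∈ P ⊔ Fusion.img Y f, k z ∈ Fusion.img P k ⊔ Y := by
      have : Fusion.img (P ⊔ Fusion.img Y f) k ≤ Fusion.img P k ⊔ Y := by
        rw [(hk.mono hle).img_sup]
        refine sup_le_sup_left (IsMap.img_le_iff.mpr fun z hz => ?_) _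
        obtain ⟨y, hy, rfl⟩ := (hf.mono hYR).mem_img.mp hz
        rwa [hkl y (hYR hy)]
      exact fun z hz => this (IsMap.apply_mem_img hz)
    have hgm : ∀ u ∈ Fusion.img P k ⊔ Y, g u ∈ R := by
      have : Fusion.img (Fusion.img P k ⊔ Y) g ≤ R := by
        rw [hg.img_sup]
        refine sup_le (IsMap.img_le_iff.mpr fun u hu => ?_) (IsMap.img_le_iff.mpr fun y hy => ?_)
        · rw [eg u hu]
          exact hTR (h0.mem_S hu)
        · rw [hgy y hy]
          exact hYR hy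
      exact fun z hz => this (IsMap.apply_mem_img hz)
    refine ⟨f ∘ (g ∘ k), ((hk.mono hle).comp hg hkm).comp hf fun z hz => hgm _ (hkm z hz),
      fun x hx => ?_, fun z hz => ?_⟩
    · show f (g (k x)) = φ x
      rw [eg _ (IsMap.apply_mem_img hx)]
      show f (k (φ (f (k x)))) = φ x
      rw [hkr x (hTi (hPT hx)), hkr _ (hTi (hφ.mem_S hx))]
    · obtain ⟨y, hy, rfl⟩ := (hf.mono hYR).mem_img.mp hz
      show f (g (k (f y))) = f y
      rw [hkl y (hYR hy), hgy y hy]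

/-- A Sylow subgroup meets a normal subgroup in a Sylow subgroup. -/
theorem exists_sylow_subgroupOf {G : Type*} [Group G] [Finite G] [Fact p.Prime] (P : Sylow p G)
    (N : Subgroup G) [N.Normal] : ∃ R : Sylow p N, (R : Subgroup N) = (P : Subgroup G).subgroupOf N := by
  obtain ⟨R, hR⟩ := (P.2.comap_of_injective N.subtype N.subtype_injective).exists_le_sylow
  obtain ⟨P', hP'⟩ := (R.2.map N.subtype).exists_le_sylow
  obtain ⟨g, hg⟩ := MulAction.exists_smul_eq G P' P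
  refine ⟨R, (Subgroup.eq_of_le_of_card_ge hR ?_).symm⟩
  have hmem : ∀ v : (R : Subgroup N), g * ((v : N) : G) * g⁻¹ ∈ (P : Subgroup G) := fun v => by
    rw [← hg]
    exact ⟨((v : N) : G), hP' ⟨v, v.2, rfl⟩, rfl⟩
  exact Nat.card_le_card_of_injective (β := (P : Subgroup G).subgroupOf N)
    (fun v => ⟨⟨g * ((v : N) : G) * g⁻¹, Subgroup.Normal.conj_mem inferInstance _ (v : N).2 _⟩,
      hmem v⟩)
    fun v w e => Subtype.ext (Subtype.ext (by
      have := congrArg (fun z : (P : Subgroup G).subgroupOf N => ((z : N) : G)) e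
      simpa using this))

/-- The largest admissible subgroup is strongly closed. -/
theorem stronglyClosed_largest [Finite S] [Fact p.Prime] (hS : IsPGroup p S)
    (hE : E.IsNormalIn F p) {C : Subgroup Ω} (hC : Adm F E C) (hmax : ∀ Y, Adm F E Y → Y ≤ C) :
    F.StronglyClosed C := by
  obtain ⟨hEs, hF, hinv⟩ := hE.1
  have hsc := hinv.2.1
  have hTS : T ≤ S := hsc.1
  haveI := finite_of_le hTS
  have hCS : C ≤ S := hC.1.trans inf_le_left
  have hbig : ∀ (R : Subgroup Ω) (f : Ω → Ω), IsMap F R f → T ≤ R →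
      ∀ x ∈ R, (x ∈ C ↔ f x ∈ C) := by
    have fwd : ∀ (R : Subgroup Ω) (f : Ω → Ω), IsMap F R f → T ≤ R →
        ∀ x ∈ R, x ∈ C → f x ∈ C := fun R f hf hTR x hx hxC =>
      hmax _ (Adm.img hinv (hC.mono (inf_le_left : C ⊓ R ≤ C)) hf hTR inf_le_right)
        (IsMap.apply_mem_img ⟨hxC, hx⟩)
    intro R f hf hTR x hx
    refine ⟨fwd R f hf hTR x hx, fun hfx => ?_⟩
    obtain ⟨k, hk, -, hkl, -⟩ := hf.exists_inv
    have hfT : Fusion.img T f = T :=
      img_eq_of_apply hf hTR fun x hx => stronglyClosed_apply hsc hf (hTR hx) hx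
    rw [← hkl x hx]
    exact fwd _ k hk (hfT ▸ img_mono hTR f) _ (IsMap.apply_mem_img hx) hfx
  have hclass : IsMapClass F (fun P f => ∀ x ∈ P, (x ∈ C ↔ f x ∈ C)) :=
    { conj := fun P g hP hg x hx => hbig S _ (isMap_conj le_rfl hg) hTS x (hP hx)
      congr := fun P f f' _ e h x hx => by rw [e x hx]; exact h x hx
      mono := fun P R f _ hR h x hx => h x (hR hx)
      comp := fun P Q f g _ _ hfQ h h' x hx => (h x hx).trans (h' _ (hfQ x hx))
      inv := fun P f k hf _ hl h y hy => by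
        obtain ⟨x, hx, rfl⟩ := hf.mem_img.mp hy
        rw [hl x hx]
        exact (h x hx).symm }
  refine stronglyClosed_of_apply hCS fun P f hf x hx hxC => ?_
  refine ((alperin_radical hS hF hclass (fun g hg => hbig S g hg hTS)
    (fun Q _ hQn hQc hQr hIH => ?_) hf) x hx).mp hxC
  have hQS : Q ≤ S := hQn.1
  haveI := finite_of_le hQS
  haveI := finite_mulAut Q
  intro a ha
  by_cases hTQ : T ≤ Q
  · exact hbig Q _ ((isMap_autFun hQS).mpr ha) hTQ
  -- the meet with `T`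
  set P₀ := Q ⊓ T
  have hP₀Q : P₀ ≤ Q := inf_le_left
  have hP₀T : P₀ ≤ T := inf_le_right
  have hP₀c : E.IsCentric P₀ := by
    by_contra hcon
    obtain ⟨f, hf, y, hy, hyS, hyP, hyo⟩ := exists_radical_witness hS hF hinv hQc hcon
    exact not_radical_of_witness hQc hf hy hyS hyP hyo hQr
  set L := stabKer F E Q P₀ ⊥ hQS hP₀Q bot_le
  set G := F.autGroup Q
  have hLn : ∀ b ∈ G, ∀ h ∈ L, b * h * b⁻¹ ∈ L := by
    intro b hb h hh
    obtain ⟨hh1, -, ⟨e, he, hhe⟩, hhm⟩ := hh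
    have hbm := (isMap_autFun (F := F) hQS).mpr hb
    have hbP : ∀ u ∈ P₀, autFun b u ∈ P₀ := fun u hu =>
      ⟨autFun_mem _ hu.1, stronglyClosed_apply hsc hbm hu.1 hu.2⟩
    have hbi : ∀ u ∈ P₀, autFun b⁻¹ u ∈ P₀ := fun u hu =>
      ⟨autFun_mem _ hu.1, stronglyClosed_apply hsc
        ((isMap_autFun hQS).mpr (inv_mem hb)) hu.1 hu.2⟩
    obtain ⟨e', he', hee⟩ := exists_conj_sub hinv hP₀T (hbm.mono hP₀Q)
      (img_eq_of_apply hbm hP₀Q hbP) he
    refine ⟨mul_mem (mul_mem hb hh1) (inv_mem hb), fun u hu => ?_, ⟨e', he', fun u hu => ?_⟩,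
      fun m hm => ?_⟩
    · rw [Subgroup.mem_bot.mp hu]
      exact ((isMap_autFun (F := F) hQS).mpr (mul_mem (mul_mem hb hh1) (inv_mem hb))).map_one
    · rw [autFun_mul _ _ hu.1, autFun_mul _ _ (autFun_mem _ hu.1), hhe _ (hbi u hu),
        ← hee _ (hbi u hu), autFun_inv_apply b hu.1]
    · have hy := autFun_mem b⁻¹ hm
      have h1 := hbP _ (hhm _ hy)
      rw [hbm.map_mul (Q.inv_mem hy) (autFun_mem h hy), hbm.map_inv hy,
        autFun_inv_apply b hm] at h1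
      rwa [autFun_mul _ _ hm, autFun_mul _ _ hy]
  set N := L.subgroupOf G
  haveI hN : N.Normal := ⟨fun h hh b => hLn b b.2 h hh⟩
  -- the automorphisms of order prime to `p` in `L` fix the elements of `C`
  have hfix : ∀ h ∈ L, (orderOf h).Coprime p → ∀ y ∈ Q, y ∈ C → autFun h y = y := by
    intro h hh hhp y hyQ hyC
    obtain ⟨hh1, -, ⟨e, he, hhe⟩, hhm⟩ := hh
    have hyc : y ∈ centralizerIn S P₀ := centralizerIn_anti hP₀T (hC.1 hyC)
    have hB : P₀ ⊔ Subgroup.zpowers y ≤ Q := sup_le hP₀Q (Subgroup.zpowers_le.mpr hyQ)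
    obtain ⟨γ, hγ, eγ, hγy⟩ := hC.2 P₀ _ ((isMap_autFun hP₀T).mpr he)
    refine fix_of_coprime (m := orderOf h) hS hE hP₀c hyc he
      (hγ.mono (sup_le_sup_left (Subgroup.zpowers_le.mpr hyC) _)) eγ (hγy y hyC)
      (((isMap_autFun hQS).mpr hh1).mono hB) hhe (hhm y hyQ) hhp ?_
    rw [iterate_autFun h hyQ, pow_orderOf_eq_one, autFun_one hyQ]
  obtain ⟨hfc, ⟨-, P₁, hP₁⟩, hrec⟩ := fullyNormalized_props hS hF hQn
  obtain ⟨R₁, hR₁⟩ := exists_sylow_subgroupOf P₁ N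
  set Good := (goodAut F _ hclass Q hQS).subgroupOf G
  have hNgood : N ≤ Good := by
    have htop : Good.subgroupOf N = ⊤ := by
      refine eq_top_of_coprime_mem (p := p) _ R₁ ?_ fun g hg => ⟨g.1.2, fun y hy => ?_⟩
      · rw [hR₁, hP₁]
        exact Subgroup.comap_mono (Subgroup.comap_mono (autInducedBy_le_good hclass hQS))
      · have hgp : (orderOf ((g : G) : MulAut Q)).Coprime p := by
          rwa [Subgroup.orderOf_coe, Subgroup.orderOf_coe]
        show y ∈ C ↔ autFun ((g : G) : MulAut Q) y ∈ C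
        have hgL : ((g : G) : MulAut Q) ∈ L := g.2
        refine ⟨fun hyC => ?_, fun hyC => ?_⟩
        · rwa [hfix _ hgL hgp y hy hyC]
        · have := hfix _ (inv_mem hgL) (by rwa [orderOf_inv]) _ (autFun_mem _ hy) hyC
          rw [autFun_inv_apply' _ hy] at this
          rwa [this]
    exact Subgroup.subgroupOf_eq_top.mp htop
  -- an element of `N_T(Q)` outside `Q`
  obtain ⟨t, ht, htQ⟩ : ∃ t ∈ normalizerIn T Q, t ∉ Q := by
    have hQn' : Q ≤ Subgroup.normalizer (T : Set Ω) := hQS.trans (normalizes_of_stronglyClosed hsc)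
    have hlt : Q < Q ⊔ T := lt_of_le_of_ne le_sup_left fun h => hTQ (h.symm ▸ le_sup_right)
    obtain ⟨u, hu, huQ⟩ := SetLike.exists_of_lt (lt_inf_normalizer hS hlt (sup_le hQS hTS))
    have hu1 : u ∈ ((Q ⊔ T : Subgroup Ω) : Set Ω) := hu.1
    rw [Subgroup.coe_mul_of_left_le_normalizer_right Q T hQn'] at hu1
    obtain ⟨q, hq, t, ht, rfl⟩ := hu1
    refine ⟨t, ⟨ht, ?_⟩, fun h => huQ (Q.mul_mem hq h)⟩
    have := Subgroup.mul_mem _ (Subgroup.inv_mem _ (Subgroup.le_normalizer hq)) hu.2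
    rwa [inv_mul_cancel_left] at this
  set β := conjAut Q t ht.2
  have hβS : β ∈ autInducedBy S Q := conjAut_mem_autInducedBy ht.2 (hTS ht.1)
  have hβI : β ∉ Inn Q := fun h =>
    htQ (mem_of_inn (hQc.2 Q (isConj_refl hQS)) (hTS ht.1) ht.2 h hQS)
  have hβL : β ∈ L := by
    have htP : t ∈ Subgroup.normalizer (P₀ : Set Ω) := by
      haveI := finite_of_le (hP₀Q.trans hQS)
      exact mem_normalizer_of_maps_finite fun u hu => ⟨conj_mem_of_mem_normalizer ht.2 hu.1,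
        T.mul_mem (T.mul_mem ht.1 hu.2) (T.inv_mem ht.1)⟩
    refine ⟨autInducedBy_le hQS hβS, fun u hu => ?_, ⟨conjAut P₀ t htP,
      autInducedBy_le hP₀T (conjAut_mem_autInducedBy htP ht.1), fun u hu => ?_⟩, fun m hm => ?_⟩
    · rw [Subgroup.mem_bot.mp hu, autFun_apply_mem _ Q.one_mem, conjAut_apply]
      simp
    · rw [autFun_apply_mem _ hu.1, conjAut_apply, autFun_apply_mem _ hu, conjAut_apply]
    · rw [autFun_apply_mem _ hm, conjAut_apply]
      refine ⟨Q.mul_mem (Q.inv_mem hm) (conj_mem_of_mem_normalizer ht.2 hm), ?_⟩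
      show m⁻¹ * (t * m * t⁻¹) ∈ T
      rw [show m⁻¹ * (t * m * t⁻¹) = m⁻¹ * t * m⁻¹⁻¹ * t⁻¹ by group]
      exact T.mul_mem (conj_mem_of_mem_normalizer
        (normalizes_of_stronglyClosed hsc (S.inv_mem (hQS hm))) ht.1) (T.inv_mem ht.1)
  have hnorm : Subgroup.normalizer (((R₁ : Subgroup N).map N.subtype : Subgroup G) : Set G) ≤ Good := by
    intro n hn
    have hβG : β ∈ G := autInducedBy_le hQS hβS
    have hmem : (⟨β, hβG⟩ : G) ∈ (R₁ : Subgroup N).map N.subtype := by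
      rw [hR₁, Subgroup.subgroupOf_map_subtype, hP₁]
      exact ⟨hβS, hβL⟩
    have := conj_mem_of_mem_normalizer hn hmem
    rw [hR₁, Subgroup.subgroupOf_map_subtype, hP₁] at this
    exact good_of_conj (p := p) hclass hQS hrec hIH n.2 hβS hβI this.1
  have htop : Good = ⊤ :=
    top_le_iff.mp ((Sylow.normalizer_sup_eq_top R₁).ge.trans (sup_le hnorm hNgood))
  have hmem : (⟨a, ha⟩ : G) ∈ Good := by rw [htop]; trivial
  exact hmem.2

theorem main [Finite S] [Fact p.Prime] (hS : IsPGroup p S) (hE : E.IsNormalIn F p) :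
    ∃ C : Subgroup Ω, C ≤ centralizerIn S T ∧
      (∀ P : Subgroup Ω, E.Hom P ⊆ F.centralizerHom C P) ∧
      (∀ Y : Subgroup Ω, Y ≤ centralizerIn S T →
        (∀ P : Subgroup Ω, E.Hom P ⊆ F.centralizerHom Y P) → Y ≤ C) ∧ F.StronglyClosed C := by
  have hsub := hE.1.2.2.1
  obtain ⟨C, hC, hmax⟩ := exists_largest hS hE
  obtain ⟨hCX, hCE⟩ := (adm_iff hsub).mp hC
  exact ⟨C, hCX, hCE, fun Y hY h => hmax Y ((adm_iff hsub).mpr ⟨hY, h⟩),
    stronglyClosed_largest hS hE hC hmax⟩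

end Cfsg.Lib.Fusion.NormCent
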