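import Cfsg.Agent.Fusion.NormalCentralizer.LiftMain

/-!
Elements of centralizers that are fixed by lifts.
-/

set_option autoImplicit false
set_option linter.unusedSectionVars false
set_option linter.style.haveILetI false

namespace Cfsg.Lib.Fusion.NormCent

open Cfsg Cfsg.FusionSystem Cfsg.Lib.Fusion

universe u

variable {Ω : Type u} [Group Ω] {S T : Subgroup Ω} {F : FusionSystem S} {E : FusionSystem T}
  {p : ℕ} {Q : Subgroup Ω}

/-- A shift of an element of the centralizer by an automorphism trivial on `Q` is fixed by the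
automorphisms of `Q` in the subsystem. -/
theorem fixed_of_shift [Finite S] [Fact p.Prime] (hS : IsPGroup p S) (hE : E.IsNormalIn F p)
    (hQc : E.IsCentric Q) {y : Ω} (hy : y ∈ centralizerIn S Q) {d : Ω → Ω}
    (hd : IsMap F (Q ⊔ Subgroup.zpowers y) d) (hdQ : ∀ x ∈ Q, d x = x) {z : Ω} (hz : z ∈ Q)
    (hdy : d y = y * z) {α : MulAut Q} (hα : α ∈ E.autGroup Q) : autFun α z = z := by
  obtain ⟨hW, -⟩ := id hE
  obtain ⟨hEs, hF, hinv⟩ := hW
  have hTS : T ≤ S := hinv.2.1.1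
  have hQT : Q ≤ T := hQc.1
  have hQS : Q ≤ S := hQT.trans hTS
  haveI := finite_of_le hQS
  set B := Q ⊔ Subgroup.zpowers y
  have hBS : B ≤ S := sup_le hQS (Subgroup.zpowers_le.mpr hy.1)
  have hQB : Q ≤ B := le_sup_left
  have hyB : y ∈ B := Subgroup.mem_sup_right (Subgroup.mem_zpowers y)
  haveI := finite_of_le hBS
  have hyz : Commute y z := centralizerIn_comm hy hz
  have hdpow : ∀ i : ℤ, d (y ^ i) = (y * z) ^ i := fun i => by
    obtain ⟨φ, -, e⟩ := id hd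
    have := _root_.map_zpow φ ⟨y, hyB⟩ i
    rw [e, e] at this
    simpa [hdy] using this
  have hdB : ∀ x ∈ B, d x ∈ B ∧ d x * x⁻¹ ∈ Q := fun x hx => by
    obtain ⟨a, ha, i, rfl⟩ := mem_sup_zpowers hy hx
    have hyi : y ^ i ∈ B := B.zpow_mem hyB i
    rw [hd.map_mul (hQB ha) hyi, hdQ a ha, hdpow i, hyz.mul_zpow]
    refine ⟨B.mul_mem (hQB ha) (B.mul_mem hyi (hQB (Q.zpow_mem hz i))), ?_⟩
    rw [(hyz.zpow_zpow i i).eq,
      show a * (z ^ i * y ^ i) * (a * y ^ i)⁻¹ = a * z ^ i * a⁻¹ by group]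
    exact Q.mul_mem (Q.mul_mem ha (Q.zpow_mem hz i)) (Q.inv_mem ha)
  obtain ⟨δ, hδ, eδ⟩ := hd.exists_aut (img_eq_of_apply hd le_rfl fun x hx => (hdB x hx).1)
  have hδc : δ ∈ Small.chainAut F B Q hQB := ⟨hδ, fun x hx => by rw [eδ x (hQB hx), hdQ x hx],
    fun r hr => by rw [eδ r hr]; exact (hdB r hr).2⟩
  obtain ⟨B', f, hf, -, -, hreal⟩ := exists_map_realize hF hBS
    (Small.isPGroup_chainAut (F := F) hS hQB hBS) fun _ h => h.1
  obtain ⟨s, hs, es⟩ := hreal δ hδc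
  have hfQ : IsMap F Q f := hf.mono hQB
  have hQ₁T : img Q f ≤ T := IsMap.img_le_iff.mpr fun x hx =>
    stronglyClosed_apply hinv.2.1 hfQ hx (hQT hx)
  have hsC : s ∈ centralizerIn S (img Q f) := Fusion.mem_centralizerIn.mpr ⟨hs, fun u hu => by
    obtain ⟨x, hx, rfl⟩ := hfQ.mem_img.mp hu
    rw [← es x (hQB hx), eδ x (hQB hx), hdQ x hx]⟩
  have hyC : f y ∈ centralizerIn S (img Q f) := hf.mem_centralizerIn hQB hyB hy
  obtain ⟨Q₂, hQ₁₂, hQ₂⟩ := exists_fullyNormalized (F := F) hfQ.img_le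
  obtain ⟨hfc, -, hrec⟩ := fullyNormalized_props hS hF hQ₂
  obtain ⟨h₀, hh₀, hi₀⟩ := isConj_iff.mp hQ₁₂
  obtain ⟨h, hh, eh⟩ := receptive_extend hrec hh₀ hi₀
  have hhi : img (img Q f) h = Q₂ := (img_congr eh).trans hi₀
  have hQ₁e : img Q f ≤ extSub S (img Q f) h₀ := le_extSub hh₀
  have hye := centralizerIn_le_extSub (S := S) (img Q f) h₀ hyC
  have hse := centralizerIn_le_extSub (S := S) (img Q f) h₀ hsC
  have hQ₂c : E.IsCentric Q₂ :=
    hi₀ ▸ CharSub.centricT_img hinv (CharSub.centricT_img hinv hQc hfQ) hh₀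
  have hα₁ := congr_mem_sub hinv hQT hfQ rfl hα
  have hα₂ := congr_mem_sub hinv hQ₁T hh₀ hi₀ hα₁
  set α₁ := MulAut.congr (hfQ.equiv rfl) α
  set α₂ := MulAut.congr (hh₀.equiv hi₀) α₁
  obtain ⟨W, hW, eW, hWc⟩ := lift_of_fullyCentralized hS hE hQ₂c hfc hα₂
  set C₂ := centralizerIn S Q₂
  have hy₂ : h (f y) ∈ C₂ := by
    have := hh.mem_centralizerIn hQ₁e hye hyC
    rwa [hhi] at this
  have hs₂ : h s ∈ C₂ := by
    have := hh.mem_centralizerIn hQ₁e hse hsC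
    rwa [hhi] at this
  -- the commutator
  have hzC : z ∈ centralizerIn S Q := by
    have h1 := hd.mem_centralizerIn hQB hyB hy
    rw [img_congr hdQ, show img Q (fun x => x) = Q from img_id Q, hdy] at h1
    simpa using (centralizerIn S Q).mul_mem ((centralizerIn S Q).inv_mem hy) h1
  have hfz : f z ∈ img Q f := IsMap.apply_mem_img hz
  have hz₂ : h (f z) ∈ Q₂ := hhi ▸ IsMap.apply_mem_img hfz
  set y₂ := h (f y)
  set s₂ := h s
  have hcomm : h (f z) = y₂⁻¹ * (s₂ * y₂ * s₂⁻¹) := by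
    have h1 : f y * f z = s * f y * s⁻¹ := by
      rw [← hf.map_mul hyB (hQB hz), ← hdy, ← eδ y hyB]
      exact es y hyB
    rw [show f z = (f y)⁻¹ * (s * f y * s⁻¹) by rw [← h1]; group,
      hh.map_mul (Subgroup.inv_mem _ hye)
        (Subgroup.mul_mem _ (Subgroup.mul_mem _ hse hye) (Subgroup.inv_mem _ hse)),
      hh.map_inv hye, hh.map_conj hse hye]
  have hWz : W (h (f z)) = h (f z) := by
    have hyX : y₂ ∈ Q₂ ⊔ C₂ := Subgroup.mem_sup_right hy₂
    have hsX : s₂ ∈ Q₂ ⊔ C₂ := Subgroup.mem_sup_right hs₂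
    have ha := hWc y₂ hy₂
    have hb := hWc s₂ hs₂
    have hWC : ∀ c ∈ C₂, W c ∈ C₂ := fun c hc => by
      have := hW.mem_centralizerIn (P := Q₂) le_sup_left (Subgroup.mem_sup_right hc) hc
      rwa [(img_congr eW).trans (img_autFun _)] at this
    have haC : y₂⁻¹ * W y₂ ∈ C₂ := C₂.mul_mem (C₂.inv_mem hy₂) (hWC _ hy₂)
    have hbC : s₂⁻¹ * W s₂ ∈ C₂ := C₂.mul_mem (C₂.inv_mem hs₂) (hWC _ hs₂)
    have hWy : W y₂ = y₂ * (y₂⁻¹ * W y₂) := by group
    have hWs : W s₂ = s₂ * (s₂⁻¹ * W s₂) := by group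
    set a := y₂⁻¹ * W y₂
    set b := s₂⁻¹ * W s₂
    have hay : Commute a y₂ := (centralizerIn_comm hy₂ ha).symm
    have has : Commute a s₂ := (centralizerIn_comm hs₂ ha).symm
    have hby : Commute b y₂ := (centralizerIn_comm hy₂ hb).symm
    have hba : Commute b a := (centralizerIn_comm haC hb).symm
    rw [hcomm, hW.map_mul (Subgroup.inv_mem _ hyX)
      (Subgroup.mul_mem _ (Subgroup.mul_mem _ hsX hyX) (Subgroup.inv_mem _ hsX)),
      hW.map_inv hyX, hW.map_conj hsX hyX, hWy, hWs]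
    have hbya : b * (y₂ * a) * b⁻¹ = y₂ * a := by
      rw [(hby.mul_right hba).eq, mul_inv_cancel_right]
    calc (y₂ * a)⁻¹ * (s₂ * b * (y₂ * a) * (s₂ * b)⁻¹)
        = a⁻¹ * (y₂⁻¹ * (s₂ * (b * (y₂ * a) * b⁻¹) * s₂⁻¹)) := by group
      _ = a⁻¹ * (y₂⁻¹ * (s₂ * y₂ * (a * s₂⁻¹))) := by rw [hbya]; group
      _ = a⁻¹ * (y₂⁻¹ * (s₂ * y₂ * (s₂⁻¹ * a))) := by rw [has.inv_right.eq]
      _ = a⁻¹ * ((y₂⁻¹ * (s₂ * y₂ * s₂⁻¹)) * a) := by group
      _ = y₂⁻¹ * (s₂ * y₂ * s₂⁻¹) := by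
        have : Commute a (y₂⁻¹ * (s₂ * y₂ * s₂⁻¹)) :=
          hay.inv_right.mul_right ((has.mul_right hay).mul_right has.inv_right)
        rw [← this.eq, inv_mul_cancel_left]
  rw [eW _ hz₂] at hWz
  have hfix : h₀ (f (autFun α z)) = h₀ (f z) := by
    rw [← congr_equiv_spec hfQ rfl α hz, ← congr_equiv_spec hh₀ hi₀ α₁ hfz, ← eh _ hfz]
    exact hWz
  exact hfQ.injOn (autFun_mem α hz) hz
    (hh₀.injOn (IsMap.apply_mem_img (autFun_mem α hz)) hfz hfix)

/-- An extension of order prime to `p` fixes what some extension fixes. -/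
theorem fix_of_coprime [Finite S] [Fact p.Prime] (hS : IsPGroup p S) (hE : E.IsNormalIn F p)
    (hQc : E.IsCentric Q) {y : Ω} (hy : y ∈ centralizerIn S Q) {α : MulAut Q}
    (hα : α ∈ E.autGroup Q) {γ h : Ω → Ω} (hγ : IsMap F (Q ⊔ Subgroup.zpowers y) γ)
    (hγQ : ∀ x ∈ Q, γ x = autFun α x) (hγy : γ y = y) (hh : IsMap F (Q ⊔ Subgroup.zpowers y) h)
    (hhQ : ∀ x ∈ Q, h x = autFun α x) (hhy : y⁻¹ * h y ∈ Q) {m : ℕ} (hm : m.Coprime p)
    (hpow : h^[m] y = y) : h y = y := by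
  set B := Q ⊔ Subgroup.zpowers y
  have hQB : Q ≤ B := le_sup_left
  have hyB : y ∈ B := Subgroup.mem_sup_right (Subgroup.mem_zpowers y)
  haveI := finite_of_le hγ.le
  set z := y⁻¹ * h y
  have hhyz : h y = y * z := by simp only [z]; group
  have hiB : img B γ = B := by
    refine img_eq_of_apply hγ le_rfl fun x hx => ?_
    have : Subgroup.zpowers y ≤ B := le_sup_right
    obtain ⟨a, ha, i, rfl⟩ := mem_sup_zpowers hy hx
    obtain ⟨φ, -, e⟩ := id hγ
    have h1 := _root_.map_zpow φ ⟨y, hyB⟩ i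
    rw [e, e] at h1
    rw [hγ.map_mul (hQB ha) (B.zpow_mem hyB i), hγQ a ha,
      show γ (y ^ i) = y ^ i from (by simpa [hγy] using h1)]
    exact B.mul_mem (hQB (autFun_mem α ha)) (B.zpow_mem hyB i)
  obtain ⟨k, hk, -, hkl, -⟩ := hγ.exists_inv
  rw [hiB] at hk
  have hhB : ∀ x ∈ B, h x ∈ B := fun x hx => by
    obtain ⟨a, ha, i, rfl⟩ := mem_sup_zpowers hy hx
    obtain ⟨φ, -, e⟩ := id hh
    have h1 := _root_.map_zpow φ ⟨y, hyB⟩ i
    rw [e, e] at h1
    rw [hh.map_mul (hQB ha) (B.zpow_mem hyB i), hhQ a ha,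
      show h (y ^ i) = (y * z) ^ i from (by simpa [hhyz] using h1)]
    exact B.mul_mem (hQB (autFun_mem α ha)) (B.zpow_mem (B.mul_mem hyB (hQB hhy)) i)
  have hd : IsMap F B (k ∘ h) := hh.comp hk hhB
  have hdQ : ∀ x ∈ Q, (k ∘ h) x = x := fun x hx => by
    show k (h x) = x
    rw [hhQ x hx, ← hγQ x hx, hkl x (hQB hx)]
  set z' := autFun α⁻¹ z
  have hz' : z' ∈ Q := autFun_mem _ hhy
  have hdy : (k ∘ h) y = y * z' := by
    show k (h y) = _
    have : γ (y * z') = y * z := by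
      rw [hγ.map_mul hyB (hQB hz'), hγy, hγQ _ hz', autFun_inv_apply α hhy]
    rw [hhyz, ← this, hkl _ (B.mul_mem hyB (hQB hz'))]
  have hzz : autFun α z = z := by
    have h1 := fixed_of_shift hS hE hQc hy hd hdQ hz' hdy hα
    rw [autFun_inv_apply α hhy] at h1
    conv_lhs => rw [h1]
    exact autFun_inv_apply α hhy
  have hit : ∀ n : ℕ, h^[n] y = y * z ^ n := by
    intro n
    induction n with
    | zero => simp
    | succ n ih =>
      rw [Function.iterate_succ_apply', ih, hh.map_mul hyB (hQB (Q.pow_mem hhy n)), hhyz,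
        hh.map_pow (hQB hhy), hhQ z hhy, hzz, pow_succ', mul_assoc]
  have hzm : z ^ m ∈ (⊥ : Subgroup Ω) := by
    rw [hit m] at hpow
    simpa using hpow
  obtain ⟨i, hi⟩ := exists_pow_eq_one hS (hγ.le (hQB hhy))
  have hz1 : z = 1 := by simpa using mem_of_pow_mem_coprime hi hm hzm
  rw [hhyz, hz1, mul_one]

theorem iterate_autFun {P : Subgroup Ω} (δ : MulAut P) {x : Ω} (hx : x ∈ P) (n : ℕ) :
    (autFun δ)^[n] x = autFun (δ ^ n) x := by
  induction n with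
  | zero => rw [pow_zero, autFun_one hx]; rfl
  | succ n ih => rw [Function.iterate_succ_apply', ih, pow_succ', autFun_mul _ _ hx]

/-- A lift of order prime to `p`. -/
theorem exists_coprime_lift [Finite S] [Fact p.Prime] {α : MulAut Q}
    (hl : Lift F Q (autFun α)) (hα : (orderOf α).Coprime p) :
    ∃ δ ∈ F.autGroup (Q ⊔ centralizerIn S Q), (orderOf δ).Coprime p ∧
      (∀ x ∈ Q, autFun δ x = autFun α x) ∧
      ∀ c ∈ centralizerIn S Q, c⁻¹ * autFun δ c ∈ Q := by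
  obtain ⟨W, hW, eW, hWc⟩ := hl
  set X := Q ⊔ centralizerIn S Q
  haveI := finite_of_le hW.le
  haveI := finite_mulAut X
  obtain ⟨w, hw, ew⟩ := hW.exists_aut
    (img_eq_of_apply hW le_rfl (mem_of_lift hW (fun x hx => eW x hx ▸ autFun_mem α hx) hWc))
  obtain ⟨e, he, he1⟩ := exists_coprime_power w hα
  have hwQ : ∀ x ∈ Q, autFun w x = autFun α x := fun x hx => by
    rw [ew x (Subgroup.mem_sup_left hx), eW x hx]
  have hae : α ^ e = α := by
    conv_rhs => rw [← pow_one α]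
    exact pow_eq_pow_iff_modEq.mpr he1
  refine ⟨w ^ e, pow_mem hw e, he, fun x hx => ?_, fun c hc => ?_⟩
  · rw [autFun_pow_agree w α le_sup_left hwQ e x hx, hae]
  · have hcX : c ∈ X := Subgroup.mem_sup_right hc
    clear he he1 hae
    induction e with
    | zero => rw [pow_zero, autFun_one hcX, inv_mul_cancel]; exact Q.one_mem
    | succ n ih =>
      rw [pow_succ', autFun_mul _ _ hcX,
        show autFun (w ^ n) c = c * (c⁻¹ * autFun (w ^ n) c) by group,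
        ((isMap_autFun hW.le).mpr hw).map_mul hcX (Subgroup.mem_sup_left ih), ← mul_assoc,
        hwQ _ ih, ew c hcX]
      exact Q.mul_mem (hWc c hc) (autFun_mem α ih)

end Cfsg.Lib.Fusion.NormCent
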