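import Cfsg.Agent.Fusion.NormalCentralizer.Lift

/-!
Every automorphism in a normal subsystem of a centric fully centralized subgroup lifts.
-/

set_option autoImplicit false
set_option linter.unusedSectionVars false
set_option linter.style.haveILetI false

namespace Cfsg.Lib.Fusion.NormCent

open Cfsg Cfsg.FusionSystem Cfsg.Lib.Fusion

universe u

variable {Ω : Type u} [Group Ω] {S T : Subgroup Ω} {F : FusionSystem S} {E : FusionSystem T}
  {p : ℕ} {Q : Subgroup Ω}

/-- The extension to the centralizer of `Q` of a lift on the normalizer. -/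
theorem exists_ext_centralizer [Finite S] [Fact p.Prime] (hS : IsPGroup p S)
    (hE : E.IsWeaklyNormalIn F p) (hQc : E.IsCentric Q) (hQn : F.IsFullyNormalized Q)
    :
    ∀ b : MulAut (normalizerIn T Q), b ∈ E.autGroup (normalizerIn T Q) →
    (∀ x ∈ Q, autFun b x ∈ Q) → Lift F (normalizerIn T Q) (autFun b) →
    ∃ γ ∈ F.autGroup (normalizerIn T Q ⊔ centralizerIn S (normalizerIn T Q) ⊔ centralizerIn S Q),
      (∀ x ∈ normalizerIn T Q, autFun γ x = autFun b x) ∧
      (∀ c ∈ centralizerIn S (normalizerIn T Q), c⁻¹ * autFun γ c ∈ normalizerIn T Q) := by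
  obtain ⟨hEs, hF, hinv⟩ := hE
  have hsc := hinv.2.1
  have hTS : T ≤ S := hsc.1
  haveI := finite_of_le hTS
  have hQT : Q ≤ T := hQc.1
  haveI := finite_of_le hQn.1
  set N := normalizerIn T Q
  set C := centralizerIn S Q
  set M := N ⊔ centralizerIn S N
  set B := M ⊔ C
  intro b hb hbQ hl
  have hNT : N ≤ T := inf_le_left
  have hQN : Q ≤ N := le_normalizerIn hQT
  have hNS : N ≤ S := hNT.trans hTS
  have hNM : N ≤ M := le_sup_left
  have hCS : C ≤ S := inf_le_left
  have hMS : M ≤ S := sup_le hNS inf_le_left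
  have hnQ : ∀ x ∈ N, ∀ q ∈ Q, x * q * x⁻¹ ∈ Q := fun x hx q hq =>
    conj_mem_of_mem_normalizer hx.2 hq
  haveI := finite_of_le hNS
  haveI := finite_of_le hMS
  -- conjugation by the centralizer of `Q`
  have hsQ : ∀ s ∈ C, ∀ q ∈ Q, s * q * s⁻¹ = q := fun s hs => (Fusion.mem_centralizerIn.mp hs).2
  have hsN : ∀ s ∈ C, ∀ x ∈ N, s * x * s⁻¹ ∈ N := fun s hs x hx =>
    ⟨conj_mem_of_mem_normalizer (normalizes_of_stronglyClosed hsc hs.1) hx.1,
      Subgroup.mul_mem _ (Subgroup.mul_mem _ (centralizerIn_le_normalizerIn Q hs).2 hx.2)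
        (Subgroup.inv_mem _ (centralizerIn_le_normalizerIn Q hs).2)⟩
  have hsM : ∀ s ∈ C, ∀ x ∈ M, s * x * s⁻¹ ∈ M := fun s hs x hx => by
    have hm : IsMap F M (fun y => s * y * s⁻¹) := isMap_conj hMS hs.1
    obtain ⟨a, ha, c, hc, rfl⟩ := mem_sup_centralizerIn.mp hx
    have h1 := hm.mem_centralizerIn (P := N) le_sup_left (Subgroup.mem_sup_right hc) hc
    rw [img_eq_of_apply hm hNM (hsN s hs)] at h1
    rw [show s * (a * c) * s⁻¹ = s * a * s⁻¹ * (s * c * s⁻¹) by group]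
    exact M.mul_mem (Subgroup.mem_sup_left (hsN s hs a ha)) (Subgroup.mem_sup_right h1)
  have hsn : ∀ s ∈ C, s ∈ Subgroup.normalizer (M : Set Ω) := fun s hs =>
    mem_normalizer_of_maps_finite (hsM s hs)
  let c (s : Ω) (hs : s ∈ C) : MulAut M := conjAut M s (hsn s hs)
  have hc : ∀ s (hs : s ∈ C), ∀ x ∈ M, autFun (c s hs) x = s * x * s⁻¹ := fun s hs x hx => by
    rw [autFun_apply_mem _ hx]; exact conjAut_apply _ _
  have hcF : ∀ s (hs : s ∈ C), c s hs ∈ F.autGroup M := fun s hs =>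
    autInducedBy_le hMS (conjAut_mem_autInducedBy _ hs.1)
  have hci : ∀ s (hs : s ∈ C), ∀ x ∈ M, autFun (c s hs)⁻¹ x = s⁻¹ * x * s := fun s hs x hx => by
    have h := hc s hs _ (autFun_mem (c s hs)⁻¹ hx)
    rw [autFun_inv_apply _ hx] at h
    calc autFun (c s hs)⁻¹ x = s⁻¹ * (s * autFun (c s hs)⁻¹ x * s⁻¹) * s := by group
      _ = s⁻¹ * x * s := by rw [← h]
  -- transport of automorphisms of `N` by these conjugations
  have hconjE : ∀ s ∈ C, ∀ e ∈ E.autGroup N, ∃ e' ∈ E.autGroup N,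
      ∀ x ∈ N, autFun e' (s * x * s⁻¹) = s * autFun e x * s⁻¹ := fun s hs e he =>
    exists_conj_sub hinv hNT (isMap_conj (F := F) hNS hs.1)
      (img_eq_of_apply (isMap_conj (F := F) hNS hs.1) le_rfl (hsN s hs)) he
  -- the lift as an automorphism of `M`
  obtain ⟨W, hW, eW, hWc⟩ := hl
  have hWM : ∀ y ∈ M, W y ∈ M := mem_of_lift hW (fun x hx => eW x hx ▸ autFun_mem b hx) hWc
  obtain ⟨w, hw, ew⟩ := hW.exists_aut (img_eq_of_apply hW le_rfl hWM)
  have hwN : ∀ x ∈ N, autFun w x = autFun b x := fun x hx => (ew x (hNM hx)).trans (eW x hx)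
  have hwiN : ∀ x ∈ N, autFun w⁻¹ x = autFun b⁻¹ x := fun x hx => by
    conv_lhs => rw [← autFun_inv_apply b hx, ← hwN _ (autFun_mem b⁻¹ hx)]
    exact autFun_inv_apply' w (hNM (autFun_mem b⁻¹ hx))
  have hwm : ∀ m ∈ M, m⁻¹ * autFun w m ∈ N := fun m hm => by
    obtain ⟨a, ha, d, hd, rfl⟩ := mem_sup_centralizerIn.mp hm
    rw [((isMap_autFun hMS).mpr hw).map_mul (hNM ha) (Subgroup.mem_sup_right hd), hwN a ha,
      ew d (Subgroup.mem_sup_right hd), show W d = d * (d⁻¹ * W d) by group,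
      show (a * d)⁻¹ * (autFun b a * (d * (d⁻¹ * W d))) =
        d⁻¹ * (a⁻¹ * autFun b a) * d * (d⁻¹ * W d) by group, mul_assoc (d⁻¹) _ d,
      ← centralizerIn_comm hd (N.mul_mem (N.inv_mem ha) (autFun_mem b ha)), inv_mul_cancel_left]
    exact N.mul_mem (N.mul_mem (N.inv_mem ha) (autFun_mem b ha)) (hWc d hd)
  have hwim : ∀ m ∈ M, m⁻¹ * autFun w⁻¹ m ∈ N := fun m hm => by
    have hy := autFun_mem w⁻¹ hm
    have h1 := hwm _ hy
    rw [autFun_inv_apply w hm] at h1
    simpa using N.inv_mem h1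
  -- the `p`-group
  set K₀ := stabKer F E M N Q hMS hNM hQN
  set KC := autInducedBy C M
  have hKC : KC ≤ F.autGroup M := (autInducedBy_mono hCS).trans (autInducedBy_le hMS)
  have hnorm : KC ≤ Subgroup.normalizer (K₀ : Set (MulAut M)) := by
    refine le_normalizer_of_conj fun k hk h hh => ?_
    obtain ⟨s, hs, es⟩ := mem_autInducedBy.mp hk
    obtain rfl : k = c s hs := MulEquiv.ext fun x => Subtype.ext ((es x).trans (conjAut_apply _ x).symm)
    obtain ⟨hh1, hhQ, ⟨e, he, hhe⟩, hhm⟩ := hh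
    obtain ⟨e', he', hee⟩ := hconjE s hs e he
    refine ⟨mul_mem (mul_mem (hcF s hs) hh1) (inv_mem (hcF s hs)), fun x hx => ?_,
      ⟨e', he', fun x hx => ?_⟩, fun m hm => ?_⟩
    · have hxM : x ∈ M := hNM (hQN hx)
      have h0 : s⁻¹ * x * s = x := by
        conv_lhs => rw [← hsQ s hs x hx]
        group
      rw [autFun_mul _ _ hxM, autFun_mul _ _ (autFun_mem _ hxM), hci s hs x hxM, h0, hhQ x hx,
        hc s hs x hxM, hsQ s hs x hx]
    · have hy : s⁻¹ * x * s ∈ N := by simpa using hsN s⁻¹ (C.inv_mem hs) x hx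
      rw [autFun_mul _ _ (hNM hx), autFun_mul _ _ (autFun_mem _ (hNM hx)), hci s hs x (hNM hx),
        hhe _ hy, hc s hs _ (hNM (autFun_mem e hy)), ← hee _ hy]
      congr 1
      group
    · have hy : s⁻¹ * m * s ∈ M := by simpa using hsM s⁻¹ (C.inv_mem hs) m hm
      rw [autFun_mul _ _ hm, autFun_mul _ _ (autFun_mem _ hm), hci s hs m hm,
        hc s hs _ (autFun_mem h hy),
        show m⁻¹ * (s * autFun h (s⁻¹ * m * s) * s⁻¹) =
          s * ((s⁻¹ * m * s)⁻¹ * autFun h (s⁻¹ * m * s)) * s⁻¹ by group]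
      exact hsN s hs _ (hhm _ hy)
  have hKp : IsPGroup p (KC ⊔ K₀ : Subgroup (MulAut M)) :=
    ((isPGroup_autInducedBy hS M).to_le (autInducedBy_mono hCS)).to_sup_of_normal_right'
      (isPGroup_stabKer hS hTS hEs hMS hNM hQN hNT hnQ hQc) hnorm
  -- commutators with the lift
  have hcomm : ∀ s (hs : s ∈ C), w * c s hs * w⁻¹ * (c s hs)⁻¹ ∈ K₀ := fun s hs => by
    obtain ⟨e', he', hee⟩ := hconjE s hs _ (inv_mem hb)
    have hmul : ∀ m ∈ M, autFun (w * c s hs * w⁻¹ * (c s hs)⁻¹) m =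
        autFun w (s * autFun w⁻¹ (s⁻¹ * m * s) * s⁻¹) := fun m hm => by
      have hy : s⁻¹ * m * s ∈ M := by simpa using hsM s⁻¹ (C.inv_mem hs) m hm
      rw [autFun_mul _ _ hm, hci s hs m hm, autFun_mul _ _ hy, autFun_mul _ _ (autFun_mem _ hy),
        hc s hs _ (autFun_mem _ hy)]
    refine ⟨mul_mem (mul_mem (mul_mem hw (hcF s hs)) (inv_mem hw)) (inv_mem (hcF s hs)),
      fun x hx => ?_, ⟨b * e', mul_mem hb he', fun x hx => ?_⟩, fun m hm => ?_⟩
    · have h0 : s⁻¹ * x * s = x := by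
        conv_lhs => rw [← hsQ s hs x hx]
        group
      have hbi : autFun b⁻¹ x ∈ Q := by
        obtain ⟨α, -, eα⟩ := (((isMap_autFun hNT).mpr hb).mono hQN).exists_aut
          (img_eq_of_apply ((isMap_autFun hNT).mpr hb) hQN hbQ)
        have h1 : autFun b (autFun α⁻¹ x) = x := by
          rw [← eα _ (autFun_mem _ hx), autFun_inv_apply α hx]
        rw [← h1, autFun_inv_apply' b (hQN (autFun_mem _ hx))]
        exact autFun_mem _ hx
      rw [hmul x (hNM (hQN hx)), h0, hwiN x (hQN hx), hsQ s hs _ hbi, hwN _ (hQN hbi),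
        autFun_inv_apply b (hQN hx)]
    · have hy : s⁻¹ * x * s ∈ N := by simpa using hsN s⁻¹ (C.inv_mem hs) x hx
      rw [hmul x (hNM hx), hwiN _ hy, hwN _ (hsN s hs _ (autFun_mem _ hy)), autFun_mul _ _ hx]
      congr 1
      rw [← hee _ hy]
      congr 1
      group
    · have hy : s⁻¹ * m * s ∈ M := by simpa using hsM s⁻¹ (C.inv_mem hs) m hm
      have ha := hwim _ hy
      set a := (s⁻¹ * m * s)⁻¹ * autFun w⁻¹ (s⁻¹ * m * s)
      have hsa := hsN s hs a ha
      rw [hmul m hm,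
        show s * autFun w⁻¹ (s⁻¹ * m * s) * s⁻¹ = m * (s * a * s⁻¹) by simp only [a]; group,
        ((isMap_autFun hMS).mpr hw).map_mul hm (hNM hsa), ← mul_assoc, hwN _ hsa]
      exact N.mul_mem (hwm m hm) (autFun_mem b hsa)
  -- the two extensions
  obtain ⟨M', f, hf, hfi, hrec, hreal⟩ := exists_map_realize hF hMS hKp
    (sup_le hKC fun _ h => h.1)
  have hle₁ : C ≤ extSub S M f := fun s hs => by
    obtain ⟨σ, hσ, eσ⟩ := hreal (c s hs)
      (Subgroup.mem_sup_left (mem_autInducedBy.mpr ⟨s, hs, fun x => conjAut_apply _ x⟩))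
    exact ⟨hs.1, hsn s hs, σ, hσ, fun x hx => by rw [← hc s hs x hx]; exact eσ x hx⟩
  have hfW : IsMap F M (f ∘ autFun w) :=
    ((isMap_autFun hMS).mpr hw).comp hf fun x hx => autFun_mem w hx
  have hfWi : img M (f ∘ autFun w) = M' := by
    rw [img_comp ((isMap_autFun hMS).mpr hw) ((img_autFun w).symm ▸ hf), img_autFun, hfi]
  have hle₂ : C ≤ extSub S M (f ∘ autFun w) := fun s hs => by
    have hmem : w * c s hs * w⁻¹ ∈ KC ⊔ K₀ := by
      have := Subgroup.mul_mem (KC ⊔ K₀) (Subgroup.mem_sup_right (hcomm s hs))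
        (Subgroup.mem_sup_left (mem_autInducedBy.mpr ⟨s, hs, fun x => conjAut_apply _ x⟩ :
          c s hs ∈ KC))
      rwa [inv_mul_cancel_right] at this
    obtain ⟨σ, hσ, eσ⟩ := hreal _ hmem
    refine ⟨hs.1, hsn s hs, σ, hσ, fun x hx => ?_⟩
    have h := eσ _ (autFun_mem w hx)
    rw [autFun_mul _ _ (autFun_mem w hx), autFun_inv_apply' w hx, autFun_mul _ _ hx,
      hc s hs x hx] at h
    exact h
  obtain ⟨g₁, hg₁, eg₁⟩ := receptive_extend hrec hf hfi
  obtain ⟨g₂, hg₂, eg₂⟩ := receptive_extend hrec hfW hfWi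
  have h₁ : IsMap F B g₁ := hg₁.mono (sup_le (le_extSub hf) hle₁)
  have h₂ : IsMap F B g₂ := hg₂.mono (sup_le (le_extSub hfW) hle₂)
  obtain ⟨k, hk, -, hkl, hkr⟩ := h₁.exists_inv
  set R := img Q g₁
  have hQB : Q ≤ B := hQN.trans (hNM.trans le_sup_left)
  have hR : F.IsConj Q R := isConj_iff.mpr ⟨g₁, h₁.mono hQB, rfl⟩
  have hcard := (fullyNormalized_props hS hF hQn).1.2 R hR
  have himgQ : img Q g₂ = R := by
    haveI := finite_of_le (h₁.mono hQB).img_le
    refine Subgroup.eq_of_le_of_card_ge (H := img Q g₂)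
      (IsMap.img_le_iff.mpr fun x hx => ?_) ?_
    · rw [eg₂ x (hNM (hQN hx))]
      show f (autFun w x) ∈ R
      rw [hwN x (hQN hx), ← eg₁ _ (hNM (hQN (hbQ x hx)))]
      exact IsMap.apply_mem_img (hbQ x hx)
    · rw [(h₁.mono hQB).card_img, (h₂.mono hQB).card_img]
  have hC₁ : ∀ s ∈ C, g₁ s ∈ centralizerIn S R := fun s hs =>
    h₁.mem_centralizerIn hQB (Subgroup.mem_sup_right hs) hs
  have hin : ∀ y ∈ B, g₂ y ∈ img B g₁ := by
    have : img B g₂ ≤ img B g₁ := by
      rw [h₂.img_sup]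
      refine sup_le (IsMap.img_le_iff.mpr fun x hx => ?_) (IsMap.img_le_iff.mpr fun s hs => ?_)
      · rw [eg₂ x hx]
        show f (autFun w x) ∈ _
        rw [← eg₁ _ (autFun_mem w hx)]
        exact IsMap.apply_mem_img (Subgroup.mem_sup_left (autFun_mem w hx))
      · have h := h₂.mem_centralizerIn hQB (Subgroup.mem_sup_right hs) hs
        rw [himgQ] at h
        obtain ⟨d, hd, e⟩ :=
          exists_preimage_of_card_le h₁ le_sup_right inf_le_left hC₁ hcard h
        rw [← e]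
        exact IsMap.apply_mem_img (Subgroup.mem_sup_right hd)
    exact fun y hy => this (IsMap.apply_mem_img hy)
  have hg : IsMap F B (k ∘ g₂) := h₂.comp hk hin
  have hgB : ∀ y ∈ B, k (g₂ y) ∈ B := fun y hy => by
    obtain ⟨x, hx, e⟩ := h₁.mem_img.mp (hin y hy)
    rw [← e, hkl x hx]
    exact hx
  obtain ⟨γ, hγ, eγ⟩ := hg.exists_aut (img_eq_of_apply hg le_rfl hgB)
  have hγw : ∀ x ∈ M, autFun γ x = autFun w x := fun x hx => by
    rw [eγ x (Subgroup.mem_sup_left hx)]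
    show k (g₂ x) = _
    rw [eg₂ x hx]
    show k (f (autFun w x)) = _
    rw [← eg₁ _ (autFun_mem w hx), hkl _ (Subgroup.mem_sup_left (autFun_mem w hx))]
  exact ⟨γ, hγ, fun x hx => (hγw x (hNM hx)).trans (hwN x hx), fun d hd => by
    rw [hγw d (Subgroup.mem_sup_right hd)]
    exact hwm d (Subgroup.mem_sup_right hd)⟩

/-- A `p'`-automorphism normalizing the induced automorphisms lifts if one on the normalizer
does. -/
theorem lift_step [Finite S] [Fact p.Prime] (hS : IsPGroup p S)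
    (hE : E.IsWeaklyNormalIn F p) (hQc : E.IsCentric Q) (hQn : F.IsFullyNormalized Q)
    {a : MulAut Q} (ha : a ∈ E.autGroup Q) (hap : (orderOf a).Coprime p)
    (han : ∀ π ∈ autInducedBy T Q, a * π * a⁻¹ ∈ autInducedBy T Q)
    (hIH : ∀ β ∈ E.autGroup (normalizerIn T Q), Lift F (normalizerIn T Q) (autFun β)) :
    Lift F Q (autFun a) := by
  obtain ⟨hEs, hF, hinv⟩ := id hE
  have hsc := hinv.2.1
  have hTS : T ≤ S := hsc.1
  haveI := finite_of_le hTS
  haveI := finite_of_le hQn.1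
  have hQT : Q ≤ T := hQc.1
  have hTp : IsPGroup p T := hS.of_injective _ (Subgroup.inclusion_injective hTS)
  set N := normalizerIn T Q
  set C := centralizerIn S Q
  have hNT : N ≤ T := inf_le_left
  have hQN : Q ≤ N := le_normalizerIn hQT
  -- the extension in the subsystem
  have ham : IsMap E Q (autFun a) := (isMap_autFun hQT).mpr ha
  obtain ⟨β₀, hβ₀, eβ₀⟩ := receptive_extend
    (fullyNormalized_props hTp hEs (fullyNormalized_sub hS hF hinv hQT hQn)).2.2 ham (img_autFun a)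
  have hNext : N ≤ extSub T Q (autFun a) := fun g hg => by
    obtain ⟨h, hh, eh⟩ :=
      mem_autInducedBy.mp (han _ (conjAut_mem_autInducedBy hg.2 hg.1))
    refine ⟨hg.1, hg.2, h, hh, fun x hx => ?_⟩
    rw [← eh ⟨autFun a x, autFun_mem a hx⟩, ← autFun_apply, autFun_mul _ _ (autFun_mem a hx),
      autFun_inv_apply' a hx, autFun_mul _ _ hx]
    congr 1
    rw [autFun_apply_mem _ hx, conjAut_apply]
  have hβm : IsMap E N β₀ := hβ₀.mono hNext
  have hβN : ∀ x ∈ N, β₀ x ∈ N := fun x hx => by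
    have := hβm.mem_normalizerIn hQN hx hx.2
    rwa [img_congr eβ₀, img_autFun] at this
  obtain ⟨b, hb, eb⟩ := hβm.exists_aut (img_eq_of_apply hβm le_rfl hβN)
  have hba : ∀ x ∈ Q, autFun b x = autFun a x := fun x hx => (eb x (hQN hx)).trans (eβ₀ x hx)
  -- a power of order prime to `p`
  set M := N ⊔ centralizerIn S N
  set B := M ⊔ C
  obtain ⟨γ, hγ, hγN, hγm⟩ :=
    exists_ext_centralizer hS hE hQc hQn b hb (fun x hx => hba x hx ▸ autFun_mem a hx) (hIH b hb)
  have hBS : B ≤ S := sup_le (sup_le (hNT.trans hTS) inf_le_left) inf_le_left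
  haveI := finite_of_le hBS
  haveI := finite_of_le (hNT.trans hTS)
  haveI := finite_mulAut B
  obtain ⟨e, heo, he1⟩ := exists_coprime_power γ hap
  have hNB : N ≤ B := le_sup_left.trans le_sup_left
  have hQB : Q ≤ B := hQN.trans hNB
  set δ := γ ^ e
  have hδ : δ ∈ F.autGroup B := pow_mem hγ e
  have hae : a ^ e = a := by
    conv_rhs => rw [← pow_one a]
    exact pow_eq_pow_iff_modEq.mpr he1
  have hδQ : ∀ x ∈ Q, autFun δ x = autFun a x := fun x hx => by
    rw [autFun_pow_agree γ a hQB (fun y hy => (hγN y (hQN hy)).trans (hba y hy)) e x hx, hae]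
  have hδN : ∀ x ∈ N, autFun δ x = autFun (b ^ e) x :=
    fun x hx => autFun_pow_agree γ b hNB hγN e x hx
  have hδm : ∀ c ∈ centralizerIn S N, c⁻¹ * autFun δ c ∈ N := by
    intro c hc
    have hcB : c ∈ B := Subgroup.mem_sup_left (Subgroup.mem_sup_right hc)
    have key : ∀ n : ℕ, c⁻¹ * autFun (γ ^ n) c ∈ N := by
      intro n
      induction n with
      | zero => rw [pow_zero, autFun_one hcB, inv_mul_cancel]; exact N.one_mem
      | succ n ih =>
        have hn := hNB ih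
        rw [pow_succ', autFun_mul _ _ hcB, show autFun (γ ^ n) c = c * (c⁻¹ * autFun (γ ^ n) c) by
          group, ((isMap_autFun hBS).mpr hγ).map_mul hcB hn, ← mul_assoc, hγN _ ih]
        exact N.mul_mem (hγm c hc) (autFun_mem b ih)
    exact key e
  have hδm' : IsMap F B (autFun δ) := (isMap_autFun hBS).mpr hδ
  have hδimg : img Q (autFun δ) = Q := (img_congr hδQ).trans (img_autFun a)
  have hδC : ∀ c ∈ C, autFun δ c ∈ C := fun c hc => by
    have := hδm'.mem_centralizerIn hQB (Subgroup.mem_sup_right hc) hc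
    rwa [hδimg] at this
  refine ⟨autFun δ, hδm'.mono (sup_le hQB le_sup_right), hδQ, fun s hs => ?_⟩
  have hsB : s ∈ B := Subgroup.mem_sup_right hs
  set D := autFun δ s * s⁻¹
  have hD : D ∈ C := C.mul_mem (hδC s hs) (C.inv_mem hs)
  -- the inner commutator
  have hsn : ∀ r ∈ C, ∀ x ∈ N, r * x * r⁻¹ ∈ N := fun r hr x hx =>
    ⟨conj_mem_of_mem_normalizer (normalizes_of_stronglyClosed hsc hr.1) hx.1,
      Subgroup.mul_mem _ (Subgroup.mul_mem _ (centralizerIn_le_normalizerIn Q hr).2 hx.2)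
        (Subgroup.inv_mem _ (centralizerIn_le_normalizerIn Q hr).2)⟩
  have hsi : ∀ x ∈ N, s⁻¹ * x * s ∈ N := fun x hx => by
    simpa using hsn s⁻¹ (C.inv_mem hs) x hx
  obtain ⟨b', hb', hbb⟩ := exists_conj_sub hinv hNT (isMap_conj (F := F) (hNT.trans hTS) hs.1)
    (img_eq_of_apply (isMap_conj (F := F) (hNT.trans hTS) hs.1) le_rfl (hsn s hs))
    (inv_mem (pow_mem hb e))
  set ε := b ^ e * b'
  have hεD : ∀ x ∈ N, autFun ε x = D * x * D⁻¹ := fun x hx => by
    have hy := hsi x hx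
    have h1 : autFun b' x = s * autFun (b ^ e)⁻¹ (s⁻¹ * x * s) * s⁻¹ := by
      rw [← hbb _ hy]
      congr 1
      group
    have hz := autFun_mem (b ^ e)⁻¹ hy
    rw [autFun_mul _ _ hx, h1, ← hδN _ (hsn s hs _ hz), hδm'.map_conj hsB (hNB hz), hδN _ hz,
      autFun_inv_apply _ hy]
    simp only [D]
    group
  have hεQ : ∀ q ∈ Q, autFun ε q = q := fun q hq => by
    rw [hεD q (hQN hq)]
    exact (Fusion.mem_centralizerIn.mp hD).2 q hq
  obtain ⟨z, hz, hze⟩ := rigidity_aut hTp hEs hNT hQN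
    (fun x hx q hq => conj_mem_of_mem_normalizer hx.2 hq) hQc (mul_mem (pow_mem hb e) hb') hεQ
  have hzQ : z ∈ Q := hQc.2 Q (isConj_refl hQT) hz
  set x := z⁻¹ * D
  have hx : x ∈ centralizerIn S N := Fusion.mem_centralizerIn.mpr
    ⟨S.mul_mem (S.inv_mem (hTS hz.1)) hD.1, fun u hu => by
      rw [show z⁻¹ * D * u * (z⁻¹ * D)⁻¹ = z⁻¹ * (D * u * D⁻¹) * z by group, ← hεD u hu,
        hze u hu]
      group⟩
  have hq₀ : x⁻¹ * autFun δ x ∈ Q := by
    have hxC : x ∈ C := centralizerIn_anti hQN hx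
    refine hQc.2 Q (isConj_refl hQT) (Fusion.mem_centralizerIn.mpr ⟨hNT (hδm x hx), ?_⟩)
    exact (Fusion.mem_centralizerIn.mp (C.mul_mem (C.inv_mem hxC) (hδC x hxC))).2
  set q₀ := x⁻¹ * autFun δ x
  have hDq : ∃ q ∈ Q, autFun δ D = D * q := by
    have hzd : autFun δ z ∈ Q := hδQ z hzQ ▸ autFun_mem a hzQ
    have hxB : x ∈ B := Subgroup.mem_sup_left (Subgroup.mem_sup_right hx)
    refine ⟨z⁻¹ * autFun δ z * q₀, Q.mul_mem (Q.mul_mem (Q.inv_mem hzQ) hzd) hq₀, ?_⟩
    rw [show D = z * x by simp only [x]; group, hδm'.map_mul (hQB hzQ) hxB,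
      show autFun δ x = x * q₀ by simp only [q₀]; group]
    have hc := centralizerIn_comm (centralizerIn_anti hQN hx)
      (Q.mul_mem (Q.inv_mem hzQ) hzd)
    calc autFun δ z * (x * q₀) = z * ((z⁻¹ * autFun δ z) * x) * q₀ := by group
      _ = z * (x * (z⁻¹ * autFun δ z)) * q₀ := by rw [hc]
      _ = z * x * (z⁻¹ * autFun δ z * q₀) := by group
  obtain ⟨q₁, hq₁, eD⟩ := hDq
  have hDB : D ∈ B := Subgroup.mem_sup_right hD
  have hit : ∀ n : ℕ, ∃ q ∈ Q, autFun (δ ^ n) s = D ^ n * q * s := by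
    intro n
    induction n with
    | zero => exact ⟨1, Q.one_mem, by rw [pow_zero, autFun_one hsB]; simp⟩
    | succ n ih =>
      obtain ⟨q, hq, e₀⟩ := ih
      have hδq : autFun δ q ∈ Q := hδQ q hq ▸ autFun_mem a hq
      refine ⟨q₁ ^ n * autFun δ q, Q.mul_mem (Q.pow_mem hq₁ n) hδq, ?_⟩
      rw [pow_succ', autFun_mul _ _ hsB, e₀, hδm'.map_mul (B.mul_mem (B.pow_mem hDB n) (hQB hq)) hsB,
        hδm'.map_mul (B.pow_mem hDB n) (hQB hq), hδm'.map_pow hDB, eD,
        (show Commute D q₁ from centralizerIn_comm hD hq₁).mul_pow,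
        show autFun δ s = D * s by simp only [D]; group]
      have hc := centralizerIn_comm hD (Q.mul_mem (Q.pow_mem hq₁ n) hδq)
      calc D ^ n * q₁ ^ n * autFun δ q * (D * s)
          = D ^ n * ((q₁ ^ n * autFun δ q) * D) * s := by group
        _ = D ^ n * (D * (q₁ ^ n * autFun δ q)) * s := by rw [hc]
        _ = D ^ (n + 1) * (q₁ ^ n * autFun δ q) * s := by rw [pow_succ]; group
  obtain ⟨q, hq, e₀⟩ := hit (orderOf δ)
  rw [pow_orderOf_eq_one, autFun_one hsB] at e₀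
  have hDm : D ^ orderOf δ ∈ Q := by
    rw [show D ^ orderOf δ = (D ^ orderOf δ * q * s) * s⁻¹ * q⁻¹ by group, ← e₀]
    simpa using Q.inv_mem hq
  obtain ⟨i, hi⟩ := exists_pow_eq_one hS hD.1
  have hDQ : D ∈ Q := mem_of_pow_mem_coprime hi heo hDm
  rw [show autFun δ s = D * s by simp only [D]; group, ← centralizerIn_comm hs hDQ,
    inv_mul_cancel_left]
  exact hDQ

/-- The lifting theorem. -/
theorem lift_of_fullyCentralized [Finite S] [Fact p.Prime] (hS : IsPGroup p S)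
    (hE : E.IsNormalIn F p) (hQc : E.IsCentric Q) (hQ : F.IsFullyCentralized Q)
    {a : MulAut Q} (ha : a ∈ E.autGroup Q) : Lift F Q (autFun a) := by
  obtain ⟨hW, hext⟩ := hE
  obtain ⟨hEs, hF, hinv⟩ := id hW
  have hsc := hinv.2.1
  have hTS : T ≤ S := hsc.1
  haveI := finite_of_le hTS
  induction hk : Nat.card T - Nat.card Q using Nat.strong_induction_on generalizing Q with
  | _ k ih =>
  -- reduction to fully normalized subgroups
  have hQS := hQ.1
  obtain ⟨Q', hQQ', hQ'⟩ := exists_fullyNormalized (F := F) hQS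
  suffices ∀ a' ∈ E.autGroup Q', Lift F Q' (autFun a') by
    obtain ⟨f₀, hf₀, hi₀⟩ := isConj_iff.mp (isConj_symm hQQ')
    obtain ⟨f, hf, ef⟩ := receptive_extend (receptive_of_fullyCentralized hS hF hQ) hf₀ hi₀
    obtain ⟨g, hg, hgi, hgl, hgr⟩ := hf₀.exists_inv
    rw [hi₀] at hg hgi hgr
    refine Lift.transport (a := autFun (MulAut.congr (hg.equiv hgi) a)) (f := f)
      (fun x hx => autFun_mem _ hx) (hf.mono (sup_le (le_extSub hf₀) (centralizerIn_le_extSub Q' _)))
      ((img_congr ef).trans hi₀) ?_ (fun x hx => ?_)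
      (this _ (congr_mem_sub hinv hQc.1 hg hgi ha))
    · exact (fullyNormalized_props hS hF hQ').1.2 Q (isConj_symm hQQ')
    · have hfx : f₀ x ∈ Q := hi₀ ▸ IsMap.apply_mem_img hx
      rw [ef x hx, ef _ (autFun_mem _ hx)]
      conv_rhs => rw [← hgl x hx]
      rw [congr_equiv_spec hg hgi a hfx, hgr _ (autFun_mem a hfx)]
  clear ha a
  intro a ha
  haveI := finite_of_le hQS
  have hQ'S := hQ'.1
  haveI := finite_of_le hQ'S
  have hQ'c : E.IsCentric Q' := by
    obtain ⟨f, hf, rfl⟩ := isConj_iff.mp hQQ'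
    exact CharSub.centricT_img hinv hQc hf
  have hcard : Nat.card Q' = Nat.card Q := isConj_card hQQ'
  have hQT' : Q' ≤ T := hQ'c.1
  rcases eq_or_ne Q' T with rfl | hne
  · obtain ⟨β, hβ, hβT, hβc⟩ := hext a ha
    refine ⟨autFun β, (isMap_autFun (sup_le hTS inf_le_left)).mpr hβ, fun x hx => ?_, fun c hc => ?_⟩
    · rw [autFun_apply_mem _ (Subgroup.mem_sup_left hx), autFun_apply_mem _ hx]
      exact hβT ⟨x, hx⟩
    · rw [autFun_apply_mem _ (Subgroup.mem_sup_right hc)]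
      exact (hβc ⟨c, Subgroup.mem_sup_right hc⟩ hc).1
  set N := normalizerIn T Q'
  have hTp : IsPGroup p T := hS.of_injective _ (Subgroup.inclusion_injective hTS)
  have hlt : Q' < N := lt_normalizerIn hTp (lt_of_le_of_ne hQT' hne)
  have hNS : N ≤ S := inf_le_left.trans hTS
  haveI := finite_of_le hNS
  have hNfc : F.IsFullyCentralized N := by
    refine ⟨hNS, fun U hU => ?_⟩
    obtain ⟨f, hf, rfl⟩ := isConj_iff.mp hU
    obtain ⟨-, hfa, hrec⟩ := fullyNormalized_props hS hF hQ'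
    have hfQ : IsMap F Q' f := hf.mono hlt.le
    obtain ⟨h₀, hh₀, hi₀⟩ := isConj_iff.mp (isConj_symm (isConj_iff.mpr ⟨f, hfQ, rfl⟩))
    obtain ⟨-, -, h, hh, hhi, -, hhN⟩ := exists_map_normalizer hS hfa hrec hh₀ hi₀
    have hUn : img N f ≤ normalizerIn S (img Q' f) := IsMap.img_le_iff.mpr fun x hx =>
      hf.mem_normalizerIn hlt.le hx hx.2
    have hUi : img (img N f) h = N := by
      refine Subgroup.eq_of_le_of_card_ge (IsMap.img_le_iff.mpr fun y hy => ?_) ?_
      · obtain ⟨x, hx, rfl⟩ := hf.mem_img.mp hy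
        exact ⟨stronglyClosed_apply hsc hh (hUn hy) (stronglyClosed_apply hsc hf hx hx.1),
          (hhN _ (hUn hy)).2⟩
      · rw [(hh.mono hUn).card_img, hf.card_img]
    have hCle : centralizerIn S (img N f) ≤ normalizerIn S (img Q' f) :=
      (centralizerIn_anti (img_mono hlt.le f)).trans (centralizerIn_le_normalizerIn _)
    refine card_le_of_isMap hh hCle inf_le_left fun c hc => ?_
    have := hh.mem_centralizerIn hUn (hCle hc) hc
    rwa [hUi] at this
  have hNc : E.IsCentric N := centric_of_le hQ'c hlt.le inf_le_left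
  have hcardlt : Nat.card Q' < Nat.card N :=
    lt_of_le_of_ne (Subgroup.card_le_of_le hlt.le) fun h =>
      hlt.ne (Subgroup.eq_of_le_of_card_ge hlt.le h.ge)
  have hNle : Nat.card N ≤ Nat.card T := Subgroup.card_le_of_le inf_le_left
  have hIH : ∀ β ∈ E.autGroup N, Lift F N (autFun β) := fun β hβ =>
    ih (Nat.card T - Nat.card N) (by omega) hNc hNfc hβ rfl
  -- the Frattini argument
  haveI := finite_mulAut Q'
  set G := E.autGroup Q'
  set L := (liftable F Q' hQ'S).subgroupOf G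
  set K : Subgroup G := Subgroup.closure {x : G | ∃ i : ℕ, orderOf x = p ^ i}
  haveI hKn : K.Normal := by
    refine ⟨fun x hx g => ?_⟩
    have hle : K.map (MulAut.conj g).toMonoidHom ≤ K := by
      rw [Subgroup.map_le_iff_le_comap, Subgroup.closure_le]
      rintro y ⟨i, hi⟩
      exact Subgroup.subset_closure ⟨i, by
        rw [← hi]; exact orderOf_injective _ (MulAut.conj g).injective y⟩
    exact hle ⟨x, hx, rfl⟩
  have hKL : K ≤ L := (Subgroup.closure_le _).mpr fun x ⟨i, hi⟩ =>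
    lift_pElement hS hW hQ'c hQ' x.2 ⟨i, (Subgroup.orderOf_coe x).trans hi⟩
  obtain ⟨-, P, hP⟩ :=
    (fullyNormalized_props hTp hEs (fullyNormalized_sub hS hF hinv hQT' hQ')).2.1
  have hPK : (P : Subgroup G) ≤ K := fun x hx => by
    obtain ⟨i, hi⟩ := IsPGroup.iff_orderOf.mp P.2 ⟨x, hx⟩
    exact Subgroup.subset_closure ⟨i, (Subgroup.orderOf_coe _).trans hi⟩
  have hnL : Subgroup.normalizer ((P : Subgroup G) : Set G) ≤ L := by
    intro n hn
    obtain ⟨u, v, hu, hv, huv, hup, hvp⟩ := Cfsg.Lib.Transfer.exists_pPart p n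
    rw [← huv]
    refine L.mul_mem (hKL (Subgroup.subset_closure hup)) ?_
    show Lift F Q' (autFun (v : MulAut Q'))
    refine lift_step hS hW hQ'c hQ' v.2 (by rwa [Subgroup.orderOf_coe]) (fun π hπ => ?_) hIH
    have hπG : π ∈ G := autInducedBy_le hQT' hπ
    have hvn : v ∈ Subgroup.normalizer ((P : Subgroup G) : Set G) :=
      Subgroup.zpowers_le.mpr hn hv
    have hmem : (⟨π, hπG⟩ : G) ∈ (P : Subgroup G) := by rw [hP]; exact hπ
    have := conj_mem_of_mem_normalizer hvn hmem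
    rw [hP] at this
    exact this
  have htop : L = ⊤ := top_le_iff.mp <|
    (Sylow.normalizer_sup_eq_top' P hPK).ge.trans (sup_le hnL hKL)
  exact show (⟨a, ha⟩ : G) ∈ L by rw [htop]; trivial

end Cfsg.Lib.Fusion.NormCent
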