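import Cfsg.Agent.Fusion.NormalCentralizer.Realize

/-!
The action of a normal subsystem on a normal subgroup.
-/

set_option autoImplicit false
set_option linter.unusedSectionVars false
set_option linter.style.haveILetI false

namespace Cfsg.Lib.Fusion.NormCent

open Cfsg Cfsg.FusionSystem Cfsg.Lib.Fusion

universe u

variable {Ω : Type u} [Group Ω] {S T R : Subgroup Ω} {F : FusionSystem S} {D : FusionSystem T}
  {p : ℕ}

/-- A normal subgroup meets a normal subsystem in a normal subgroup. -/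
theorem isNormal_inf [Finite S] [Fact p.Prime] (hS : IsPGroup p S) (hD : D.IsWeaklyNormalIn F p)
    (hR : F.IsNormal R) : D.IsNormal (R ⊓ T) := by
  obtain ⟨hDs, -, hinv⟩ := hD
  have hsc := hinv.2.1
  have hTS : T ≤ S := hsc.1
  haveI := finite_of_le hTS
  have hTp : IsPGroup p T := hS.of_injective _ (Subgroup.inclusion_injective hTS)
  have hRsc := stronglyClosed_of_isNormal hR
  have hDsc : D.StronglyClosed (R ⊓ T) := stronglyClosed_of_apply inf_le_right fun P f hf x hx hxR =>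
    ⟨stronglyClosed_apply hRsc (CharSub.isMap_of_sub hinv.1 hf) hx hxR.1, hf.mem_S hx⟩
  refine isNormal_of_le_radical hTp hDs hDsc fun P _ hPc hPr => ?_
  have hPT := hPc.1
  have hPS := hPT.trans hTS
  haveI := finite_of_le hPS
  refine le_of_radical hTp inf_le_right (normalizes_of_stronglyClosed hDsc) hPc hPr
    (autInducedBy R P ⊓ D.autGroup P) (fun α hα β hβ => ?_) inf_le_right
    ((isPGroup_autInducedBy hS P).to_le (inf_le_left.trans (autInducedBy_mono hR.1)))
    fun g hg hgn => ⟨conjAut_mem_autInducedBy hgn hg.1,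
      autInducedBy_le hPT (conjAut_mem_autInducedBy hgn hg.2)⟩
  refine ⟨?_, mul_mem (mul_mem hα hβ.2) ((D.autGroup P).inv_mem hα)⟩
  obtain ⟨g, hg, eg⟩ := mem_autInducedBy.mp hβ.1
  have hgn := mem_normalizer_of_mem_autInducedBy eg
  obtain ⟨k, hk, hkf, hki⟩ :=
    extend_of_isNormal hR (CharSub.isMap_of_sub hinv.1 ((isMap_autFun hPT).mpr hα))
  refine mem_autInducedBy.mpr ⟨k g, IsMap.img_le_iff.mp hki.le g hg, fun x => ?_⟩
  rw [← autFun_apply (α * β * α⁻¹) x, autFun_mul _ _ x.2, autFun_mul _ _ (autFun_mem _ x.2),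
    autFun_apply_mem β (autFun_mem _ x.2), eg]
  have hy : autFun α⁻¹ (x : Ω) ∈ P := autFun_mem _ x.2
  have hgy : g * autFun α⁻¹ (x : Ω) * g⁻¹ ∈ P := conj_mem_of_mem_normalizer hgn hy
  rw [← hkf _ hgy, hk.map_conj (Subgroup.mem_sup_right hg) (Subgroup.mem_sup_left hy), hkf _ hy,
    autFun_inv_apply α x.2]

/-- Extension to `R`, trivial modulo `R ⊓ T`. -/
def ModExt (F : FusionSystem S) (R T P : Subgroup Ω) (f : Ω → Ω) : Prop :=
  ∃ k, IsMap F (P ⊔ R) k ∧ (∀ x ∈ P, k x = f x) ∧ ∀ r ∈ R, r⁻¹ * k r ∈ R ⊓ T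

theorem modExt_apply {k : Ω → Ω} (h : ∀ r ∈ R, r⁻¹ * k r ∈ R ⊓ T) {r : Ω}
    (hr : r ∈ R) : k r ∈ R := by
  simpa using R.mul_mem hr (h r hr).1

theorem isMapClass_modExt [Finite S] (hD : D.IsInvariantIn F) (hR : F.IsNormal R) :
    IsMapClass D (ModExt F R T) where
  conj P t hP ht := ⟨_, isMap_conj (sup_le (hP.trans hD.2.1.1) hR.1) (hD.2.1.1 ht),
    fun _ _ => rfl, fun r hr => by
      have hnR := normalizes_of_stronglyClosed (stronglyClosed_of_isNormal hR) (hD.2.1.1 ht)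
      refine ⟨R.mul_mem (R.inv_mem hr) (conj_mem_of_mem_normalizer hnR hr), ?_⟩
      show r⁻¹ * (t * r * t⁻¹) ∈ T
      rw [show r⁻¹ * (t * r * t⁻¹) = r⁻¹ * t * r⁻¹⁻¹ * t⁻¹ by group]
      exact T.mul_mem (conj_mem_of_mem_normalizer
        (normalizes_of_stronglyClosed hD.2.1 (S.inv_mem (hR.1 hr))) ht) (T.inv_mem ht)⟩
  congr P f f' _ e h :=
    let ⟨k, hk, ek, hr⟩ := h
    ⟨k, hk, fun x hx => (ek x hx).trans (e x hx).symm, hr⟩
  mono P Q f _ hQ h :=
    let ⟨k, hk, ek, hr⟩ := h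
    ⟨k, hk.mono (sup_le_sup_right hQ R), fun x hx => ek x (hQ hx), hr⟩
  comp P Q f g _ _ hfQ h h' := by
    obtain ⟨k, hk, ek, hkr⟩ := h
    obtain ⟨l, hl, el, hlr⟩ := h'
    have hle : img (P ⊔ R) k ≤ Q ⊔ R := by
      rw [hk.img_sup]
      exact sup_le_sup (IsMap.img_le_iff.mpr fun x hx => ek x hx ▸ hfQ x hx)
        (IsMap.img_le_iff.mpr fun r hr => modExt_apply hkr hr)
    refine ⟨l ∘ k, hk.comp hl fun x hx => hle (IsMap.apply_mem_img hx), fun x hx => ?_,
      fun r hr => ?_⟩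
    · show l (k x) = g (f x)
      rw [ek x hx, el _ (hfQ x hx)]
    · show r⁻¹ * l (k r) ∈ _
      rw [show k r = r * (r⁻¹ * k r) by group, hl.map_mul (Subgroup.mem_sup_right hr)
        (Subgroup.mem_sup_right (hkr r hr).1), ← mul_assoc]
      refine Subgroup.mul_mem _ (hlr r hr) ⟨modExt_apply hlr (hkr r hr).1, ?_⟩
      exact stronglyClosed_apply hD.2.1 hl (Subgroup.mem_sup_right (hkr r hr).1) (hkr r hr).2
  inv P f g hf _ hl h := by
    obtain ⟨k, hk, ek, hkr⟩ := h
    haveI := finite_of_le hR.1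
    obtain ⟨k', hk', -, hkl, -⟩ := hk.exists_inv
    rw [hk.img_sup, img_congr ek, img_eq_of_apply hk le_sup_right fun r hr => modExt_apply hkr hr]
      at hk'
    refine ⟨k', hk', fun y hy => ?_, fun r hr => ?_⟩
    · obtain ⟨x, hx, rfl⟩ := hf.mem_img.mp hy
      rw [hl x hx, ← ek x hx, hkl x (Subgroup.mem_sup_left hx)]
    · obtain ⟨s, hs, rfl⟩ := (hk.mono le_sup_right).mem_img.mp
        ((img_eq_of_apply hk le_sup_right fun r hr => modExt_apply hkr hr).symm ▸ hr :
          r ∈ img R k)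
      rw [hkl s (Subgroup.mem_sup_right hs)]
      have h1 := Subgroup.inv_mem _ (hkr s hs)
      simpa using h1

/-- The `p'`-automorphisms at a fully normalized centric subgroup containing `R ⊓ T` act
trivially on `R` modulo `T`. -/
theorem modExt_coprime [Finite S] [Fact p.Prime] (hS : IsPGroup p S) (hD : D.IsNormalIn F p)
    (hR : F.IsNormal R) {Q : Subgroup Ω} (hQc : D.IsCentric Q) (hQn : F.IsFullyNormalized Q)
    (hRQ : R ⊓ T ≤ Q) {α : MulAut Q} (hα : α ∈ D.autGroup Q) (hαp : (orderOf α).Coprime p) :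
    ModExt F R T Q (autFun α) := by
  obtain ⟨hDs, hF, hinv⟩ := hD.1
  have hsc := hinv.2.1
  have hTS : T ≤ S := hsc.1
  have hQT : Q ≤ T := hQc.1
  have hQS : Q ≤ S := hQn.1
  have hRsc := stronglyClosed_of_isNormal hR
  haveI := finite_of_le hTS
  haveI := finite_of_le hQS
  have hTp : IsPGroup p T := hS.of_injective _ (Subgroup.inclusion_injective hTS)
  obtain ⟨hfc, -, -⟩ := fullyNormalized_props hS hF hQn
  set C := centralizerIn S Q
  set M := Q ⊔ C
  have hMS : M ≤ S := sup_le hQS inf_le_left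
  haveI := finite_of_le hMS
  have hQM : Q ≤ M := le_sup_left
  -- `R` normalizes `Q`
  have hRn : ∀ r ∈ R, r ∈ Subgroup.normalizer (Q : Set Ω) := fun r hr =>
    mem_normalizer_of_maps_finite fun q hq => by
      have h1 : r * q * r⁻¹ * q⁻¹ ∈ R ⊓ T := by
        refine ⟨?_, T.mul_mem (conj_mem_of_mem_normalizer (normalizes_of_stronglyClosed hsc
          (hR.1 hr)) (hQT hq)) (T.inv_mem (hQT hq))⟩
        show r * q * r⁻¹ * q⁻¹ ∈ R
        rw [show r * q * r⁻¹ * q⁻¹ = r * (q * r⁻¹ * q⁻¹) by group]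
        exact R.mul_mem hr (conj_mem_of_mem_normalizer
          (normalizes_of_stronglyClosed hRsc (hQS hq)) (R.inv_mem hr))
      simpa using Q.mul_mem (hRQ h1) hq
  have hconjM : ∀ {g : Ω}, g ∈ S → g ∈ Subgroup.normalizer (Q : Set Ω) →
      g ∈ Subgroup.normalizer (M : Set Ω) := fun {g} hg hgn => by
    have hm : IsMap F M (fun y => g * y * g⁻¹) := isMap_conj hMS hg
    have hQi : img Q (fun y => g * y * g⁻¹) = Q :=
      img_eq_of_apply hm hQM fun y hy => conj_mem_of_mem_normalizer hgn hy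
    refine mem_normalizer_of_maps_finite fun x hx => ?_
    have h := IsMap.apply_mem_img (f := fun y => g * y * g⁻¹) hx
    rw [hm.img_sup, hQi] at h
    refine sup_le_sup_left (IsMap.img_le_iff.mpr fun c hc => ?_) _ h
    have := hm.mem_centralizerIn (P := Q) le_sup_left (Subgroup.mem_sup_right hc) hc
    rwa [hQi] at this
  -- the `p`-automorphisms in the subsystem
  have hTsyl : autInducedBy S Q ⊓ D.autGroup Q ≤ autInducedBy T Q := by
    obtain ⟨-, P, hP⟩ :=
      (fullyNormalized_props hTp hDs (fullyNormalized_sub hS hF hinv hQT hQn)).2.1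
    intro β hβ
    have hle : (P : Subgroup (D.autGroup Q)) ≤ (autInducedBy S Q).subgroupOf (D.autGroup Q) := by
      rw [hP]
      exact Subgroup.comap_mono (autInducedBy_mono hTS)
    have heq := P.3 ((isPGroup_autInducedBy hS Q).comap_of_injective _
      (Subgroup.subtype_injective _)) hle
    have hmem : (⟨β, hβ.2⟩ : D.autGroup Q) ∈ (P : Subgroup (D.autGroup Q)) := heq ▸ hβ.1
    rw [hP] at hmem
    exact hmem
  -- the lift
  obtain ⟨w, hw, hwp, hwQ, hwc⟩ :=
    exists_coprime_lift (lift_of_fullyCentralized hS hD hQc hfc hα) hαp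
  have hαm : IsMap F Q (autFun α) := CharSub.isMap_of_sub hinv.1 ((isMap_autFun hQT).mpr hα)
  obtain ⟨k₀, hk₀, ek₀, hk₀R⟩ := extend_of_isNormal hR hαm
  have hwmap : IsMap F M (autFun w) := (isMap_autFun hMS).mpr hw
  have hwiQ : ∀ x ∈ Q, autFun w⁻¹ x = autFun α⁻¹ x := fun x hx => by
    conv_lhs => rw [← autFun_inv_apply α hx, ← hwQ _ (autFun_mem α⁻¹ hx)]
    exact autFun_inv_apply' w (hQM (autFun_mem α⁻¹ hx))
  -- the group
  set A := R ⊔ normalizerIn T Q
  set K₀ := Small.chainAut F M Q hQM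
  set KA := autInducedBy A M
  have hAS : A ≤ S := sup_le hR.1 (inf_le_left.trans hTS)
  have hAn : A ≤ Subgroup.normalizer (Q : Set Ω) := sup_le hRn inf_le_right
  have hKA : KA ≤ F.autGroup M := (autInducedBy_mono hAS).trans (autInducedBy_le hMS)
  have hnorm : KA ≤ Subgroup.normalizer (K₀ : Set (MulAut M)) := by
    refine le_normalizer_of_conj fun k hk h hh => Small.conj_chainAut hQM hMS ?_ hh
    obtain ⟨s, hs, es⟩ := mem_autInducedBy.mp hk
    have : ∀ x ∈ Q, autFun k x ∈ Q := fun x hx => by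
      rw [autFun_apply_mem _ (hQM hx), es]
      exact conj_mem_of_mem_normalizer (hAn hs) hx
    exact ⟨hKA hk, this, this⟩
  have hKp : IsPGroup p (KA ⊔ K₀ : Subgroup (MulAut M)) :=
    ((isPGroup_autInducedBy hS M).to_le (autInducedBy_mono hAS)).to_sup_of_normal_right'
      (Small.isPGroup_chainAut hS hQM hMS) hnorm
  have hMR : ∀ r ∈ R, r ∈ Subgroup.normalizer (M : Set Ω) := fun r hr =>
    hconjM (hR.1 hr) (hRn r hr)
  have hkey : ∀ r (hr : r ∈ R), ∃ t ∈ normalizerIn T Q,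
      ∀ x ∈ Q, autFun α (r * autFun α⁻¹ x * r⁻¹) = t * (r * x * r⁻¹) * t⁻¹ := by
    intro r hr
    have hkr : k₀ r ∈ R := IsMap.img_le_iff.mp hk₀R.le r hr
    have hy : k₀ r * r⁻¹ ∈ R := R.mul_mem hkr (R.inv_mem hr)
    have hck : ∀ x ∈ Q, autFun α (r * autFun α⁻¹ x * r⁻¹) = k₀ r * x * (k₀ r)⁻¹ := fun x hx => by
      have h1 := conj_mem_of_mem_normalizer (hRn r hr) (autFun_mem α⁻¹ hx)
      rw [← ek₀ _ h1, hk₀.map_conj (Subgroup.mem_sup_right hr)
        (Subgroup.mem_sup_left (autFun_mem α⁻¹ hx)), ek₀ _ (autFun_mem α⁻¹ hx),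
        autFun_inv_apply α hx]
    obtain ⟨β, hβ, eβ⟩ := exists_conj_sub hinv hQT (isMap_conj (F := F) hQS (hR.1 hr))
      (img_eq_of_apply (isMap_conj (F := F) hQS (hR.1 hr)) le_rfl
        fun x hx => conj_mem_of_mem_normalizer (hRn r hr) hx) (inv_mem hα)
    have hyn := hRn _ hy
    have heq : α * β = conjAut Q _ hyn := MulEquiv.ext fun x => Subtype.ext (by
      rw [conjAut_apply, ← autFun_apply, autFun_mul _ _ x.2]
      have hx' : r⁻¹ * (x : Ω) * r ∈ Q := by
        simpa using conj_mem_of_mem_normalizer (hRn _ (R.inv_mem hr)) x.2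
      have e := eβ _ hx'
      rw [show r * (r⁻¹ * (x : Ω) * r) * r⁻¹ = (x : Ω) by group] at e
      rw [e, hck _ hx']
      group)
    obtain ⟨t, ht, et⟩ := mem_autInducedBy.mp
      (hTsyl ⟨conjAut_mem_autInducedBy hyn (hR.1 hy), heq ▸ mul_mem hα hβ⟩)
    refine ⟨t, ⟨ht, mem_normalizer_of_mem_autInducedBy et⟩, fun x hx => ?_⟩
    have hx' := conj_mem_of_mem_normalizer (hRn r hr) hx
    have e := et ⟨_, hx'⟩
    rw [conjAut_apply] at e
    rw [hck x hx, ← e]
    group
  -- extension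
  have hc : ∀ r (hr : r ∈ R), conjAut M r (hMR r hr) ∈ KA ⊔ K₀ ∧
      w * conjAut M r (hMR r hr) * w⁻¹ ∈ KA ⊔ K₀ := by
    intro r hr
    have hmem : conjAut M r (hMR r hr) ∈ KA :=
      conjAut_mem_autInducedBy _ (Subgroup.mem_sup_left hr)
    refine ⟨Subgroup.mem_sup_left hmem, ?_⟩
    obtain ⟨t, ht, et⟩ := hkey r hr
    have htA : t ∈ A := Subgroup.mem_sup_right ht
    have htrn := Subgroup.mul_mem _ (hconjM (hAS htA) (hAn htA)) (hMR r hr)
    set cr := conjAut M r (hMR r hr)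
    set ct := conjAut M (t * r) htrn
    have hct : ct ∈ KA := conjAut_mem_autInducedBy _ (A.mul_mem htA (Subgroup.mem_sup_left hr))
    set d := ct⁻¹ * (w * cr * w⁻¹)
    suffices hd : d ∈ K₀ by
      have := Subgroup.mul_mem (KA ⊔ K₀) (Subgroup.mem_sup_left hct) (Subgroup.mem_sup_right hd)
      rwa [mul_inv_cancel_left] at this
    have hcrv : ∀ x ∈ M, autFun cr x = r * x * r⁻¹ := fun x hx => by
      rw [autFun_apply_mem _ hx]; exact conjAut_apply _ _
    have hctv : ∀ x ∈ M, autFun ct x = t * r * x * (t * r)⁻¹ := fun x hx => by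
      rw [autFun_apply_mem _ hx]; exact conjAut_apply _ _
    have hd : d ∈ F.autGroup M := mul_mem (inv_mem (hKA hct))
      (mul_mem (mul_mem hw (hKA hmem)) (inv_mem hw))
    have hdm : IsMap F M (autFun d) := (isMap_autFun hMS).mpr hd
    have hdQ : ∀ x ∈ Q, autFun d x = x := fun x hx => by
      have h1 := conj_mem_of_mem_normalizer (hRn r hr) (autFun_mem α⁻¹ hx)
      have e : autFun (w * cr * w⁻¹) x = autFun ct x := by
        rw [autFun_mul _ _ (hQM hx), autFun_mul _ _ (autFun_mem _ (hQM hx)), hwiQ x hx,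
          hcrv _ (hQM (autFun_mem _ hx)), hwQ _ h1, et x hx, hctv x (hQM hx)]
        group
      show autFun (ct⁻¹ * (w * cr * w⁻¹)) x = x
      rw [autFun_mul _ _ (hQM hx), e, autFun_inv_apply' ct (hQM hx)]
    have hnQ : M ≤ Subgroup.normalizer (Q : Set Ω) :=
      sup_le Subgroup.le_normalizer fun c hc => (centralizerIn_le_normalizerIn Q hc).2
    refine ⟨hd, hdQ, fun m hm => ?_⟩
    -- on the centralizer
    have hC : ∀ c ∈ C, c⁻¹ * autFun d c ∈ Q := by
      intro c hc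
      have hcM : c ∈ M := Subgroup.mem_sup_right hc
      have hwi : c⁻¹ * autFun w⁻¹ c ∈ Q := by
        have hwi' : autFun w⁻¹ c ∈ C := by
          have := ((isMap_autFun hMS).mpr (inv_mem hw)).mem_centralizerIn (P := Q) le_sup_left hcM hc
          rwa [(img_congr hwiQ).trans (img_autFun _)] at this
        have h1 := hwc _ hwi'
        rw [autFun_inv_apply w hcM] at h1
        simpa using Q.inv_mem h1
      set u := c⁻¹ * autFun w⁻¹ c
      have hrc : r * c * r⁻¹ ∈ C := by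
        have hm : IsMap F M (fun y => r * y * r⁻¹) := isMap_conj hMS (hR.1 hr)
        have := hm.mem_centralizerIn (P := Q) le_sup_left hcM hc
        rwa [img_eq_of_apply hm hQM fun y hy => conj_mem_of_mem_normalizer (hRn r hr) hy] at this
      have hru := conj_mem_of_mem_normalizer (hRn r hr) hwi
      set q := (r * c * r⁻¹)⁻¹ * autFun w (r * c * r⁻¹) * autFun w (r * u * r⁻¹)
      have hq : q ∈ Q := Q.mul_mem (hwc _ hrc) (hwQ _ hru ▸ autFun_mem α hru)
      have h2 : autFun (w * cr * w⁻¹) c = r * c * r⁻¹ * q := by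
        rw [autFun_mul _ _ hcM, autFun_mul _ _ (autFun_mem _ hcM), hcrv _ (autFun_mem _ hcM),
          show r * autFun w⁻¹ c * r⁻¹ = r * c * r⁻¹ * (r * u * r⁻¹) by simp only [u]; group,
          hwmap.map_mul (Subgroup.mem_sup_right hrc) (hQM hru)]
        simp only [q]
        group
      -- `t` moves the centralizer within `Q`
      set v := (r * c * r⁻¹)⁻¹ * (t * (r * c * r⁻¹) * t⁻¹)
      have hv : v ∈ Q := by
        refine hQc.2 Q (isConj_refl hQT) (Fusion.mem_centralizerIn.mpr ⟨?_, ?_⟩)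
        · have h3 := conj_mem_of_mem_normalizer
            (normalizes_of_stronglyClosed hsc (S.inv_mem hrc.1)) ht.1
          convert T.mul_mem h3 (T.inv_mem ht.1) using 1
          simp only [v]
          group
        · have hm : IsMap F M (fun y => t * y * t⁻¹) := isMap_conj hMS (hTS ht.1)
          have h3 := hm.mem_centralizerIn (P := Q) le_sup_left (Subgroup.mem_sup_right hrc) hrc
          rw [img_eq_of_apply hm hQM fun y hy => conj_mem_of_mem_normalizer ht.2 hy] at h3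
          exact (Fusion.mem_centralizerIn.mp (C.mul_mem (C.inv_mem hrc) h3)).2
      have h3 : autFun ct c = r * c * r⁻¹ * v := by
        rw [hctv c hcM]
        simp only [v]
        group
      have h4 : autFun (w * cr * w⁻¹) c = autFun ct c * (v⁻¹ * q) := by
        rw [h2, h3]
        group
      have hvq : v⁻¹ * q ∈ Q := Q.mul_mem (Q.inv_mem hv) hq
      show c⁻¹ * autFun (ct⁻¹ * (w * cr * w⁻¹)) c ∈ Q
      rw [autFun_mul _ _ hcM, h4, ((isMap_autFun hMS).mpr (inv_mem (hKA hct))).map_mul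
        (autFun_mem _ hcM) (hQM hvq), autFun_inv_apply' ct hcM, inv_mul_cancel_left]
      -- `ct⁻¹` stabilizes `Q`
      have h5 : autFun ct⁻¹ (v⁻¹ * q) = (t * r)⁻¹ * (v⁻¹ * q) * (t * r)⁻¹⁻¹ := by
        have e := hctv _ (autFun_mem ct⁻¹ (hQM hvq))
        rw [autFun_inv_apply ct (hQM hvq)] at e
        generalize v⁻¹ * q = z at e ⊢
        conv_rhs => rw [e]
        group
      rw [h5]
      exact conj_mem_of_mem_normalizer
        (Subgroup.inv_mem _ (Subgroup.mul_mem _ ht.2 (hRn r hr))) hvq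
    obtain ⟨a, ha, c, hc, rfl⟩ := mem_sup_centralizerIn.mp hm
    rw [hdm.map_mul (hQM ha) (Subgroup.mem_sup_right hc), hdQ a ha,
      show a * autFun d c * (a * c)⁻¹ = (a * c) * (c⁻¹ * autFun d c) * (a * c)⁻¹ by group]
    exact conj_mem_of_mem_normalizer (hnQ hm) (hC c hc)
  obtain ⟨B, hBdef⟩ : ∃ B, B = M ⊔ R := ⟨_, rfl⟩
  obtain ⟨μ, hμ, eμ⟩ : ∃ μ ∈ F.autGroup B, ∀ x ∈ M, autFun μ x = autFun w x := by
    subst hBdef
    exact exists_ext_normalizing hF hMS hRsc hMR hKp (sup_le hKA fun _ h => h.1) hw hc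
  have hBS : B ≤ S := hBdef ▸ sup_le hMS hR.1
  have hMB : M ≤ B := hBdef ▸ le_sup_left
  have hRB : R ≤ B := hBdef ▸ le_sup_right
  have hQB : Q ≤ B := hQM.trans hMB
  haveI := finite_of_le hBS
  haveI := finite_mulAut B
  obtain ⟨e, he, heQ⟩ := exists_coprime_agree hBS hQB
    (fun x hx => (eμ x (hQM hx)).trans (hwQ x hx)) hαp
  set δ := μ ^ e
  have hδ : δ ∈ F.autGroup B := pow_mem hμ e
  have hδm : IsMap F B (autFun δ) := (isMap_autFun hBS).mpr hδ
  have hδc : ∀ c ∈ C, c⁻¹ * autFun δ c ∈ Q := fun c hc => by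
    have hcB : c ∈ B := hMB (Subgroup.mem_sup_right hc)
    have key : ∀ n : ℕ, c⁻¹ * autFun (μ ^ n) c ∈ Q := by
      intro n
      induction n with
      | zero => rw [pow_zero, autFun_one hcB, inv_mul_cancel]; exact Q.one_mem
      | succ n ih =>
        rw [pow_succ', autFun_mul _ _ hcB,
          show autFun (μ ^ n) c = c * (c⁻¹ * autFun (μ ^ n) c) by group,
          ((isMap_autFun hBS).mpr hμ).map_mul hcB (hQB ih), ← mul_assoc,
          eμ c (Subgroup.mem_sup_right hc), eμ _ (hQM ih), hwQ _ ih]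
        exact Q.mul_mem (hwc c hc) (autFun_mem α ih)
    exact key e
  have hnU : B ≤ Subgroup.normalizer ((R ⊓ T : Subgroup Ω) : Set Ω) := fun g hg => by
    haveI := finite_of_le (inf_le_left.trans hR.1 : R ⊓ T ≤ S)
    exact mem_normalizer_of_maps_finite fun x hx =>
      ⟨conj_mem_of_mem_normalizer (normalizes_of_stronglyClosed hRsc (hBS hg)) hx.1,
        conj_mem_of_mem_normalizer (normalizes_of_stronglyClosed hsc (hBS hg)) hx.2⟩
  have hδU : ∀ x ∈ R ⊓ T, autFun δ x ∈ R ⊓ T := fun x hx =>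
    ⟨stronglyClosed_apply hRsc hδm (hRB hx.1) hx.1,
      stronglyClosed_apply hsc hδm (hRB hx.1) hx.2⟩
  refine ⟨autFun δ, hδm.mono (sup_le hQB hRB), heQ, fun r hr => ?_⟩
  have hrB : r ∈ B := hRB hr
  set y := autFun δ r * r⁻¹
  have hδr : autFun δ r ∈ R := stronglyClosed_apply hRsc hδm hrB hr
  have hy : y ∈ R := R.mul_mem hδr (R.inv_mem hr)
  have hyB : y ∈ B := hRB hy
  -- `y` lies in `T C_S(Q)`
  obtain ⟨t, ht, c, hc, htc⟩ : ∃ t ∈ T, ∃ c ∈ C, t * c = y := by
    obtain ⟨β, hβ, eβ⟩ := exists_conj_sub hinv hQT (isMap_conj (F := F) hQS (hR.1 hr))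
      (img_eq_of_apply (isMap_conj (F := F) hQS (hR.1 hr)) le_rfl
        fun x hx => conj_mem_of_mem_normalizer (hRn r hr) hx) (inv_mem hα)
    have hyn := hRn _ hy
    have heq : α * β = conjAut Q y hyn := MulEquiv.ext fun x => Subtype.ext (by
      rw [conjAut_apply, ← autFun_apply, autFun_mul _ _ x.2]
      have hx' : r⁻¹ * (x : Ω) * r ∈ Q := by
        simpa using conj_mem_of_mem_normalizer (hRn _ (R.inv_mem hr)) x.2
      have e := eβ _ hx'
      rw [show r * (r⁻¹ * (x : Ω) * r) * r⁻¹ = (x : Ω) by group] at e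
      have hq := autFun_mem α⁻¹ hx'
      have h1 := conj_mem_of_mem_normalizer (hRn r hr) hq
      rw [e, ← heQ _ h1, hδm.map_conj hrB (hQB hq), heQ _ hq, autFun_inv_apply α hx']
      simp only [y]
      group)
    obtain ⟨t, ht, et⟩ := mem_autInducedBy.mp
      (hTsyl ⟨conjAut_mem_autInducedBy hyn (hR.1 hy), heq ▸ mul_mem hα hβ⟩)
    refine ⟨t, ht, t⁻¹ * y, Fusion.mem_centralizerIn.mpr
      ⟨S.mul_mem (S.inv_mem (hTS ht)) (hR.1 hy), fun x hx => ?_⟩, by group⟩
    have := et ⟨x, hx⟩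
    rw [conjAut_apply] at this
    calc t⁻¹ * y * x * (t⁻¹ * y)⁻¹ = t⁻¹ * (y * x * y⁻¹) * t := by group
      _ = x := by rw [this]; group
  have hcB : c ∈ B := hMB (Subgroup.mem_sup_right hc)
  have htB : t ∈ B := by
    have := B.mul_mem hyB (B.inv_mem hcB)
    rwa [← htc, mul_inv_cancel_right] at this
  have hshift : y⁻¹ * autFun δ y ∈ R ⊓ T := by
    refine ⟨R.mul_mem (R.inv_mem hy) (stronglyClosed_apply hRsc hδm hyB hy), ?_⟩
    show y⁻¹ * autFun δ y ∈ T
    rw [← htc, hδm.map_mul htB hcB,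
      show (t * c)⁻¹ * (autFun δ t * autFun δ c) =
        c⁻¹ * (t⁻¹ * autFun δ t) * c⁻¹⁻¹ * (c⁻¹ * autFun δ c) by group]
    exact T.mul_mem (conj_mem_of_mem_normalizer (normalizes_of_stronglyClosed hsc (S.inv_mem hc.1))
      (T.mul_mem (T.inv_mem ht) (stronglyClosed_apply hsc hδm htB ht))) (hQT (hδc c hc))
  have hyU : y ∈ R ⊓ T :=
    mem_of_shift (U := R ⊓ T) hS hBS (fun x (hx : x ∈ R ⊓ T) => hRB hx.1) hnU hδ hδU he hrB hshift
  rw [show r⁻¹ * autFun δ r = r⁻¹ * y * r⁻¹⁻¹ by simp only [y]; group]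
  exact conj_mem_of_mem_normalizer (hnU (B.inv_mem hrB)) hyU

/-- Every map of a normal subsystem acts trivially on a normal subgroup modulo the subsystem. -/
theorem modExt [Finite S] [Fact p.Prime] (hS : IsPGroup p S) (hD : D.IsNormalIn F p)
    (hR : F.IsNormal R) {P : Subgroup Ω} {f : Ω → Ω} (hf : IsMap D P f) : ModExt F R T P f := by
  obtain ⟨hDs, hF, hinv⟩ := hD.1
  have hsc := hinv.2.1
  have hTS : T ≤ S := hsc.1
  haveI := finite_of_le hTS
  haveI := finite_of_le hR.1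
  have hTp : IsPGroup p T := hS.of_injective _ (Subgroup.inclusion_injective hTS)
  have hRsc := stronglyClosed_of_isNormal hR
  have hcls := isMapClass_modExt hinv hR
  have hsite : ∀ Q : Subgroup Ω, D.IsFullyNormalized Q → D.IsCentric Q → R ⊓ T ≤ Q →
      ∀ α ∈ D.autGroup Q, ModExt F R T Q (autFun α) := by
    intro Q hQn hQc hRQ
    have hQT := hQc.1
    have hQS : Q ≤ S := hQT.trans hTS
    haveI := finite_of_le hQS
    suffices hle : D.autGroup Q ≤ goodAut D (ModExt F R T) hcls Q hQT from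
      fun α hα => (hle hα).2
    refine PPower.autGroup_le_of hS hTS hDs hQn (autInducedBy_le_good hcls hQT)
      fun α hα hαp => ⟨hα, ?_⟩
    obtain ⟨Q', hQQ', hQ'⟩ := exists_fullyNormalized (F := F) hQS
    obtain ⟨f₀, hf₀, hi₀⟩ := isConj_iff.mp hQQ'
    obtain ⟨-, hfa, hrec⟩ := fullyNormalized_props hS hF hQ'
    obtain ⟨-, -, g, hg, hi, -, -⟩ := exists_map_normalizer hS hfa hrec hf₀ hi₀
    have hRN : R ≤ normalizerIn S Q := fun r hr => ⟨hR.1 hr,
      mem_normalizer_of_maps_finite fun q hq => by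
        have h1 : r * q * r⁻¹ * q⁻¹ ∈ R ⊓ T := by
          refine ⟨?_, T.mul_mem (conj_mem_of_mem_normalizer (normalizes_of_stronglyClosed hsc
            (hR.1 hr)) (hQT hq)) (T.inv_mem (hQT hq))⟩
          show r * q * r⁻¹ * q⁻¹ ∈ R
          rw [show r * q * r⁻¹ * q⁻¹ = r * (q * r⁻¹ * q⁻¹) by group]
          exact R.mul_mem hr (conj_mem_of_mem_normalizer
            (normalizes_of_stronglyClosed hRsc (hQS hq)) (R.inv_mem hr))
        simpa using Q.mul_mem (hRQ h1) hq⟩
    have hgB : IsMap F (Q ⊔ R) g := hg.mono (sup_le (le_normalizerIn hQS) hRN)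
    have hgQ : IsMap F Q g := hgB.mono le_sup_left
    have hgR : img R g = R := img_eq_of_apply hgB le_sup_right fun x hx =>
      stronglyClosed_apply hRsc hgB (Subgroup.mem_sup_right hx) hx
    have hRQ' : R ⊓ T ≤ Q' := by
      have h1 : img (R ⊓ T) g = R ⊓ T := by
        rw [img_inf_stronglyClosed hsc (hgB.mono le_sup_right), hgR]
      rw [← h1, ← hi]
      exact img_mono hRQ g
    obtain ⟨k, hk, ek, hkr⟩ := modExt_coprime hS hD hR (hi ▸ CharSub.centricT_img hinv hQc hgQ)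
      hQ' hRQ' (congr_mem_sub hinv hQT hgQ hi hα)
      ((orderOf_injective (MulAut.congr (hgQ.equiv hi)).toMonoidHom
        (MulAut.congr (hgQ.equiv hi)).injective α).symm ▸ hαp)
    obtain ⟨l, hl, -, hll, hlr⟩ := hgB.exists_inv
    rw [hgB.img_sup, hgR, hi] at hl hlr
    have hgm : ∀ x ∈ Q ⊔ R, g x ∈ Q' ⊔ R := fun x hx => by
      have := IsMap.apply_mem_img (f := g) hx
      rwa [hgB.img_sup, hgR, hi] at this
    have hkm : ∀ x ∈ Q' ⊔ R, k x ∈ Q' ⊔ R := by
      have : img (Q' ⊔ R) k ≤ Q' ⊔ R := by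
        rw [hk.img_sup, img_congr ek, img_autFun]
        exact sup_le_sup_left (IsMap.img_le_iff.mpr fun r hr => modExt_apply hkr hr) _
      exact fun x hx => this (IsMap.apply_mem_img hx)
    refine ⟨l ∘ (k ∘ g), (hgB.comp hk hgm).comp hl fun x hx => hkm _ (hgm x hx),
      fun x hx => ?_, fun r hr => ?_⟩
    · show l (k (g x)) = _
      rw [ek _ (hi ▸ IsMap.apply_mem_img hx), congr_equiv_spec hgQ hi α hx,
        hll _ (Subgroup.mem_sup_left (autFun_mem α hx))]
    · show r⁻¹ * l (k (g r)) ∈ R ⊓ T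
      have hgr : g r ∈ R := hgR ▸ IsMap.apply_mem_img hr
      have hu := hkr _ hgr
      rw [show k (g r) = g r * ((g r)⁻¹ * k (g r)) by group,
        hl.map_mul (Subgroup.mem_sup_right hgr) (Subgroup.mem_sup_right hu.1),
        hll r (Subgroup.mem_sup_right hr), inv_mul_cancel_left]
      exact ⟨stronglyClosed_apply hRsc hl (Subgroup.mem_sup_right hu.1) hu.1,
        stronglyClosed_apply hsc hl (Subgroup.mem_sup_right hu.1) hu.2⟩
  have hRn := isNormal_inf hS hD.1 hR
  have hTn : D.IsFullyNormalized T := ⟨le_rfl, fun Q hQ => by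
    obtain ⟨h, hh, rfl⟩ := isConj_iff.mp hQ
    rw [Subgroup.eq_of_le_of_card_ge hh.img_le hh.card_img.ge]⟩
  refine alperin_radical hTp hDs hcls (fun g hg => ?_)
    (fun Q _ hQn hQc hQr _ => hsite Q hQn hQc (le_radical_of_isNormal hTp hRn hQc hQr)) hf
  obtain ⟨α, hα, eα⟩ := hg.exists_aut (img_eq_of_apply hg le_rfl fun x hx => hg.mem_S hx)
  exact hcls.congr T _ g ((isMap_autFun le_rfl).mpr hα) (fun x hx => (eα x hx).symm)
    (hsite T hTn (CharSub.centric_top hinv) inf_le_right α hα)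

end Cfsg.Lib.Fusion.NormCent
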