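import Cfsg.Agent.Fusion.NormalCentralizer.Commutator
import Cfsg.Agent.Fusion.CentralizerSaturated

/-!
Lifts at the top of the centralizer of a normal subsystem.
-/

set_option autoImplicit false
set_option linter.unusedSectionVars false
set_option linter.style.haveILetI false

namespace Cfsg.Lib.Fusion.NormCent

open Cfsg Cfsg.FusionSystem Cfsg.Lib.Fusion

universe u

variable {Ω : Type u} [Group Ω] {S T : Subgroup Ω} {F : FusionSystem S} {E : FusionSystem T}
  {p : ℕ}

theorem le_centralizerIn_comm {A B : Subgroup Ω} (h : A ≤ centralizerIn S B) (hB : B ≤ S) :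
    B ≤ centralizerIn S A := fun b hb => Fusion.mem_centralizerIn.mpr ⟨hB hb, fun a ha => by
  rw [← centralizerIn_comm (h ha) hb, mul_inv_cancel_right]⟩

theorem mem_centralizerIn_sup {A B : Subgroup Ω} {g : Ω} (ha : g ∈ centralizerIn S A)
    (hb : g ∈ centralizerIn S B) : g ∈ centralizerIn S (A ⊔ B) := by
  refine Fusion.mem_centralizerIn.mpr ⟨ha.1, fun x hx => ?_⟩
  have hle : A ⊔ B ≤ Subgroup.centralizer ({g} : Set Ω) := sup_le
    (fun a h => Subgroup.mem_centralizer_iff.mpr fun _ e => e ▸ centralizerIn_comm ha h)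
    fun b h => Subgroup.mem_centralizer_iff.mpr fun _ e => e ▸ centralizerIn_comm hb h
  rw [Subgroup.mem_centralizer_iff.mp (hle hx) g rfl, mul_inv_cancel_right]

/-- The elements moved within a normalized subgroup by an automorphism form a subgroup. -/
theorem mod_of_generators {M C : Subgroup Ω} {f : Ω → Ω} (hf : IsMap F M f)
    (hn : M ≤ Subgroup.normalizer (C : Set Ω)) {A : Set Ω}
    (hA : M ≤ Subgroup.closure A) (hAM : A ⊆ M) (h : ∀ x ∈ A, x⁻¹ * f x ∈ C) :
    ∀ m ∈ M, m⁻¹ * f m ∈ C := by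
  let K : Subgroup Ω :=
    { carrier := {m | m ∈ M ∧ m⁻¹ * f m ∈ C}
      one_mem' := ⟨M.one_mem, by rw [hf.map_one]; simp⟩
      mul_mem' := fun {a b} ha hb => ⟨M.mul_mem ha.1 hb.1, by
        rw [hf.map_mul ha.1 hb.1,
          show (a * b)⁻¹ * (f a * f b) = b⁻¹ * (a⁻¹ * f a) * b⁻¹⁻¹ * (b⁻¹ * f b) by group]
        exact C.mul_mem (conj_mem_of_mem_normalizer (hn (M.inv_mem hb.1)) ha.2) hb.2⟩
      inv_mem' := fun {a} ha => ⟨M.inv_mem ha.1, by
        rw [hf.map_inv ha.1, show a⁻¹⁻¹ * (f a)⁻¹ = a * (a⁻¹ * f a)⁻¹ * a⁻¹ by group]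
        exact conj_mem_of_mem_normalizer (hn ha.1) (C.inv_mem ha.2)⟩ }
  have hle : Subgroup.closure A ≤ K := (Subgroup.closure_le _).mpr fun x hx => ⟨hAM hx, h x hx⟩
  exact fun m hm => (hle (hA hm)).2

/-- An automorphism of order prime to `p` of the largest admissible subgroup in the centralizer
system of `T` lifts. -/
theorem lift_largest [Finite S] [Fact p.Prime] (hS : IsPGroup p S) (hE : E.IsNormalIn F p)
    {C : Subgroup Ω} (hC : C ≤ centralizerIn S T) (hCsc : F.StronglyClosed C)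
    (hmax : ∀ Y, Adm F E Y → Y ≤ C) {a : MulAut C} (hap : (orderOf a).Coprime p)
    (ha : FixExt F T C (autFun a)) : Lift F C (autFun a) := by
  obtain ⟨hEs, hF, hinv⟩ := hE.1
  have hsc := hinv.2.1
  have hTS : T ≤ S := hsc.1
  have hCS : C ≤ S := hCsc.1
  set V := C ⊔ T
  set X₁ := centralizerIn S V
  set M := V ⊔ X₁
  set A := centralizerIn S C
  set B := M ⊔ A
  have hVS : V ≤ S := sup_le hCS hTS
  have hMS : M ≤ S := sup_le hVS inf_le_left
  have hBS : B ≤ S := sup_le hMS inf_le_left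
  have hCM : C ≤ M := le_sup_left.trans le_sup_left
  have hTM : T ≤ M := le_sup_right.trans le_sup_left
  have hCB : C ≤ B := hCM.trans le_sup_left
  have hTA : T ≤ A := le_centralizerIn_comm hC hTS
  have hX₁X : X₁ ≤ centralizerIn S T := centralizerIn_anti le_sup_right
  haveI := finite_of_le hCS
  haveI := finite_of_le hVS
  haveI := finite_of_le hMS
  haveI := finite_of_le hBS
  have hnC : ∀ {K : Subgroup Ω}, K ≤ S → K ≤ Subgroup.normalizer (C : Set Ω) :=
    fun hK => hK.trans (normalizes_of_stronglyClosed hCsc)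
  -- extension to `M`
  obtain ⟨γ, hγ, eγ, hγT⟩ := ha
  have hVfc : F.IsFullyCentralized V := by
    refine ⟨hVS, fun R hR => ?_⟩
    obtain ⟨f, hf, rfl⟩ := isConj_iff.mp hR
    rw [hf.img_sup, img_eq_of_apply hf le_sup_left fun x hx =>
        stronglyClosed_apply hCsc hf (Subgroup.mem_sup_left hx) hx,
      img_eq_of_apply hf le_sup_right fun x hx =>
        stronglyClosed_apply hsc hf (Subgroup.mem_sup_right hx) hx]
  have hγV : img V γ = V := by
    rw [hγ.img_sup, img_congr eγ, img_autFun, fix_img hγT]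
  obtain ⟨W, hW', eW⟩ := receptive_extend (receptive_of_fullyCentralized hS hF hVfc) hγ hγV
  have hW : IsMap F M W := hW'.mono (sup_le (le_extSub hγ) (centralizerIn_le_extSub V _))
  have hWC : ∀ x ∈ C, W x = autFun a x := fun x hx => by
    rw [eW x (Subgroup.mem_sup_left hx), eγ x hx]
  have hWT : ∀ x ∈ T, W x = x := fun x hx => by
    rw [eW x (Subgroup.mem_sup_right hx), hγT x hx]
  have hWX : ∀ y ∈ X₁, W y ∈ X₁ := fun y hy => by
    have := hW.mem_centralizerIn (P := V) le_sup_left (Subgroup.mem_sup_right hy) hy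
    rwa [img_congr eW, hγV] at this
  have hWM : ∀ x ∈ M, W x ∈ M := by
    have : img M W ≤ M := by
      rw [hW.img_sup, img_congr eW, hγV]
      exact sup_le_sup_left (IsMap.img_le_iff.mpr hWX) _
    exact fun x hx => this (IsMap.apply_mem_img hx)
  obtain ⟨w, hw, ew⟩ := hW.exists_aut (img_eq_of_apply hW le_rfl hWM)
  have hwC : ∀ x ∈ C, autFun w x = autFun a x := fun x hx => (ew x (hCM hx)).trans (hWC x hx)
  have hwT : ∀ x ∈ T, autFun w x = x := fun x hx => (ew x (hTM hx)).trans (hWT x hx)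
  have hwm : ∀ m ∈ M, m⁻¹ * autFun w m ∈ C := by
    refine mod_of_generators ((isMap_autFun hMS).mpr hw) (hnC hMS)
      (A := (C : Set Ω) ∪ T ∪ X₁) ?_ ?_ ?_
    · refine sup_le (sup_le ?_ ?_) ?_ <;> intro x hx <;> refine Subgroup.subset_closure ?_
      · exact Or.inl (Or.inl hx)
      · exact Or.inl (Or.inr hx)
      · exact Or.inr hx
    · rintro x ((hx | hx) | hx)
      exacts [hCM hx, hTM hx, Subgroup.mem_sup_right hx]
    · rintro x ((hx | hx) | hx)
      · rw [hwC x hx]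
        exact C.mul_mem (C.inv_mem hx) (autFun_mem a hx)
      · rw [hwT x hx, inv_mul_cancel]
        exact C.one_mem
      · have hP : Subgroup.zpowers x ≤ centralizerIn S T := Subgroup.zpowers_le.mpr (hX₁X hx)
        have hle : Subgroup.zpowers x ⊔ T ≤ M :=
          sup_le (Subgroup.zpowers_le.mpr (Subgroup.mem_sup_right hx)) hTM
        rw [ew x (Subgroup.mem_sup_right hx)]
        exact hmax _ (adm_commutator (f := W) hS hE hP
          (fun u hu => hX₁X (hWX u (Subgroup.zpowers_le.mpr hx hu)))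
          ⟨W, hW.mono hle, fun _ _ => rfl, hWT⟩ (Subgroup.mem_zpowers x))
          (Subgroup.mem_zpowers _)
  -- conjugation by `A`
  have hAC : ∀ s ∈ A, ∀ x ∈ C, s * x * s⁻¹ = x := fun s hs =>
    (Fusion.mem_centralizerIn.mp hs).2
  have hAM : ∀ s ∈ A, ∀ x ∈ M, s * x * s⁻¹ ∈ M := by
    intro s hs
    have hm : IsMap F M (fun y => s * y * s⁻¹) := isMap_conj hMS hs.1
    have hV : img V (fun y => s * y * s⁻¹) = V := by
      rw [(hm.mono (le_sup_left : V ≤ M)).img_sup,
        img_eq_of_apply hm hCM fun x hx => (hAC s hs x hx).symm ▸ hx,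
        img_eq_of_apply hm hTM fun x hx =>
          conj_mem_of_mem_normalizer (normalizes_of_stronglyClosed hsc hs.1) hx]
    have h1 : img M (fun y => s * y * s⁻¹) ≤ M := by
      rw [hm.img_sup, hV]
      refine sup_le_sup_left (IsMap.img_le_iff.mpr fun y hy => ?_) _
      have := hm.mem_centralizerIn (P := V) le_sup_left (Subgroup.mem_sup_right hy) hy
      rwa [hV] at this
    exact fun x hx => h1 (IsMap.apply_mem_img hx)
  have hsn : ∀ s ∈ A, s ∈ Subgroup.normalizer (M : Set Ω) := fun s hs =>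
    mem_normalizer_of_maps_finite (hAM s hs)
  let c (s : Ω) (hs : s ∈ A) : MulAut M := conjAut M s (hsn s hs)
  have hc : ∀ s (hs : s ∈ A), ∀ x ∈ M, autFun (c s hs) x = s * x * s⁻¹ := fun s hs x hx => by
    rw [autFun_apply_mem _ hx]; exact conjAut_apply _ _
  have hcF : ∀ s (hs : s ∈ A), c s hs ∈ F.autGroup M := fun s hs =>
    autInducedBy_le hMS (conjAut_mem_autInducedBy _ hs.1)
  have hci : ∀ s (hs : s ∈ A), ∀ x ∈ M, autFun (c s hs)⁻¹ x = s⁻¹ * x * s := fun s hs x hx => by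
    have h := hc s hs _ (autFun_mem (c s hs)⁻¹ hx)
    rw [autFun_inv_apply _ hx] at h
    calc autFun (c s hs)⁻¹ x = s⁻¹ * (s * autFun (c s hs)⁻¹ x * s⁻¹) * s := by group
      _ = s⁻¹ * x * s := by rw [← h]
  set KC := autInducedBy A M
  set K₀ := Small.chainAut F M C hCM
  have hKC : KC ≤ F.autGroup M :=
    (autInducedBy_mono inf_le_left).trans (autInducedBy_le hMS)
  have hnorm : KC ≤ Subgroup.normalizer (K₀ : Set (MulAut M)) := by
    refine le_normalizer_of_conj fun k hk h hh => Small.conj_chainAut hCM hMS ?_ hh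
    obtain ⟨s, hs, es⟩ := mem_autInducedBy.mp hk
    have : ∀ x ∈ C, autFun k x ∈ C := fun x hx => by
      rw [autFun_apply_mem _ (hCM hx), es, hAC s hs x hx]
      exact hx
    exact ⟨hKC hk, this, this⟩
  have hKp : IsPGroup p (KC ⊔ K₀ : Subgroup (MulAut M)) :=
    ((isPGroup_autInducedBy hS M).to_le (autInducedBy_mono inf_le_left)).to_sup_of_normal_right'
      (Small.isPGroup_chainAut hS hCM hMS) hnorm
  have hwim : ∀ m ∈ M, m⁻¹ * autFun w⁻¹ m ∈ C := fun m hm => by
    have h1 := hwm _ (autFun_mem w⁻¹ hm)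
    rw [autFun_inv_apply w hm] at h1
    simpa using C.inv_mem h1
  have hcomm : ∀ s (hs : s ∈ A), w * c s hs * w⁻¹ * (c s hs)⁻¹ ∈ K₀ := fun s hs => by
    have hmul : ∀ m ∈ M, autFun (w * c s hs * w⁻¹ * (c s hs)⁻¹) m =
        autFun w (s * autFun w⁻¹ (s⁻¹ * m * s) * s⁻¹) := fun m hm => by
      have hy : s⁻¹ * m * s ∈ M := by simpa using hAM s⁻¹ (A.inv_mem hs) m hm
      rw [autFun_mul _ _ hm, hci s hs m hm, autFun_mul _ _ hy, autFun_mul _ _ (autFun_mem _ hy),
        hc s hs _ (autFun_mem _ hy)]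
    refine ⟨mul_mem (mul_mem (mul_mem hw (hcF s hs)) (inv_mem hw)) (inv_mem (hcF s hs)),
      fun x hx => ?_, fun m hm => ?_⟩
    · have h0 : s⁻¹ * x * s = x := by
        conv_lhs => rw [← hAC s hs x hx]
        group
      have hwx : autFun w⁻¹ x ∈ C := by
        have h1 := C.mul_mem hx (hwim x (hCM hx))
        rwa [mul_inv_cancel_left] at h1
      rw [hmul x (hCM hx), h0, hAC s hs _ hwx, autFun_inv_apply w (hCM hx)]
    · have hy : s⁻¹ * m * s ∈ M := by simpa using hAM s⁻¹ (A.inv_mem hs) m hm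
      set u := (s⁻¹ * m * s)⁻¹ * autFun w⁻¹ (s⁻¹ * m * s)
      have hsu : s * u * s⁻¹ ∈ C := by rw [hAC s hs u (hwim _ hy)]; exact hwim _ hy
      have h1 : m⁻¹ * autFun (w * c s hs * w⁻¹ * (c s hs)⁻¹) m ∈ C := by
        rw [hmul m hm,
          show s * autFun w⁻¹ (s⁻¹ * m * s) * s⁻¹ = m * (s * u * s⁻¹) by simp only [u]; group,
          ((isMap_autFun hMS).mpr hw).map_mul hm (hCM hsu), ← mul_assoc, hwC _ hsu]
        exact C.mul_mem (hwm m hm) (autFun_mem a hsu)
      have h2 := conj_mem_of_mem_normalizer (hnC hMS hm) h1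
      rwa [← mul_assoc, mul_inv_cancel, one_mul] at h2
  obtain ⟨M', f, hf, hfi, hrec, hreal⟩ := exists_map_realize hF hMS hKp
    (sup_le hKC fun _ h => h.1)
  have hle₁ : A ≤ extSub S M f := fun s hs => by
    obtain ⟨σ, hσ, eσ⟩ := hreal (c s hs)
      (Subgroup.mem_sup_left (mem_autInducedBy.mpr ⟨s, hs, fun x => conjAut_apply _ x⟩))
    exact ⟨hs.1, hsn s hs, σ, hσ, fun x hx => by rw [← hc s hs x hx]; exact eσ x hx⟩
  have hfW : IsMap F M (f ∘ autFun w) :=
    ((isMap_autFun hMS).mpr hw).comp hf fun x hx => autFun_mem w hx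
  have hfWi : img M (f ∘ autFun w) = M' := by
    rw [img_comp ((isMap_autFun hMS).mpr hw) ((img_autFun w).symm ▸ hf), img_autFun, hfi]
  have hle₂ : A ≤ extSub S M (f ∘ autFun w) := fun s hs => by
    have hmem : w * c s hs * w⁻¹ ∈ KC ⊔ K₀ := by
      have := Subgroup.mul_mem (KC ⊔ K₀) (Subgroup.mem_sup_right (hcomm s hs))
        (Subgroup.mem_sup_left (mem_autInducedBy.mpr ⟨s, hs, fun x => conjAut_apply _ x⟩ :
          c s hs ∈ KC))
      rwa [inv_mul_cancel_right] at this
    obtain ⟨σ, hσ, eσ⟩ := hreal _ hmem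
    refine ⟨hs.1, hsn s hs, σ, hσ, fun x hx => ?_⟩
    have h := eσ _ (autFun_mem w hx)
    rw [autFun_mul _ _ (autFun_mem w hx), autFun_inv_apply' w hx, autFun_mul _ _ hx,
      hc s hs x hx] at h
    exact h
  obtain ⟨g₁, hg₁, eg₁⟩ := receptive_extend hrec hf hfi
  obtain ⟨g₂, hg₂, eg₂⟩ := receptive_extend hrec hfW hfWi
  have h₁ : IsMap F B g₁ := hg₁.mono (sup_le (le_extSub hf) hle₁)
  have h₂ : IsMap F B g₂ := hg₂.mono (sup_le (le_extSub hfW) hle₂)
  obtain ⟨k, hk, -, hkl, -⟩ := h₁.exists_inv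
  have hfix : ∀ {g : Ω → Ω}, IsMap F B g → ∀ s ∈ A, g s ∈ A := fun {g} hg s hs => by
    have := hg.mem_centralizerIn hCB (Subgroup.mem_sup_right hs) hs
    rwa [img_eq_of_apply hg hCB fun x hx => stronglyClosed_apply hCsc hg (hCB hx) hx] at this
  have hin : ∀ y ∈ B, g₂ y ∈ img B g₁ := by
    have : img B g₂ ≤ img B g₁ := by
      rw [h₂.img_sup]
      refine sup_le (IsMap.img_le_iff.mpr fun x hx => ?_) (IsMap.img_le_iff.mpr fun s hs => ?_)
      · rw [eg₂ x hx]
        show f (autFun w x) ∈ _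
        rw [← eg₁ _ (autFun_mem w hx)]
        exact IsMap.apply_mem_img (Subgroup.mem_sup_left (autFun_mem w hx))
      · rw [← img_eq_of_apply h₁ le_sup_right (hfix h₁)] at hs
        obtain ⟨d, hd, rfl⟩ := (h₁.mono le_sup_right).mem_img.mp hs
        have h := hfix h₂ _ (hfix h₁ d hd)
        rw [← img_eq_of_apply h₁ le_sup_right (hfix h₁)] at h
        exact img_mono le_sup_right _ h
    exact fun y hy => this (IsMap.apply_mem_img hy)
  have hg : IsMap F B (k ∘ g₂) := h₂.comp hk hin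
  have hgB : ∀ y ∈ B, k (g₂ y) ∈ B := fun y hy => by
    obtain ⟨x, hx, e⟩ := h₁.mem_img.mp (hin y hy)
    rw [← e, hkl x hx]
    exact hx
  obtain ⟨μ, hμ, eμ⟩ := hg.exists_aut (img_eq_of_apply hg le_rfl hgB)
  have hμw : ∀ x ∈ M, autFun μ x = autFun w x := fun x hx => by
    rw [eμ x (Subgroup.mem_sup_left hx)]
    show k (g₂ x) = _
    rw [eg₂ x hx]
    show k (f (autFun w x)) = _
    rw [← eg₁ _ (autFun_mem w hx), hkl _ (Subgroup.mem_sup_left (autFun_mem w hx))]
  -- a power of order prime to `p`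
  haveI := finite_mulAut B
  obtain ⟨e, heo, he1⟩ := exists_coprime_power μ hap
  set δ := μ ^ e
  have hae : a ^ e = a := by
    conv_rhs => rw [← pow_one a]
    exact pow_eq_pow_iff_modEq.mpr he1
  have hδC : ∀ x ∈ C, autFun δ x = autFun a x := fun x hx => by
    rw [autFun_pow_agree μ a hCB (fun y hy => (hμw y (hCM hy)).trans (hwC y hy)) e x hx, hae]
  have hTB : T ≤ B := hTM.trans le_sup_left
  have hδT : ∀ x ∈ T, autFun δ x = x := fun x hx => by
    rw [autFun_pow_agree μ (1 : MulAut T) hTB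
      (fun y hy => by rw [hμw y (hTM hy), hwT y hy, autFun_one hy]) e x hx, one_pow, autFun_one hx]
  have hμm : IsMap F B (autFun μ) := (isMap_autFun hBS).mpr hμ
  have hδm : IsMap F B (autFun δ) := (isMap_autFun hBS).mpr (pow_mem hμ e)
  have hδmod : ∀ m ∈ M, m⁻¹ * autFun δ m ∈ C := fun m hm => by
    have hmB : m ∈ B := Subgroup.mem_sup_left hm
    have key : ∀ n : ℕ, m⁻¹ * autFun (μ ^ n) m ∈ C := by
      intro n
      induction n with
      | zero => rw [pow_zero, autFun_one hmB, inv_mul_cancel]; exact C.one_mem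
      | succ n ih =>
        rw [pow_succ', autFun_mul _ _ hmB,
          show autFun (μ ^ n) m = m * (m⁻¹ * autFun (μ ^ n) m) by group,
          hμm.map_mul hmB (hCB ih), ← mul_assoc, hμw m hm, hμw _ (hCM ih), hwC _ ih]
        exact C.mul_mem (hwm m hm) (autFun_mem a ih)
    exact key e
  refine ⟨autFun δ, hδm.mono (sup_le hCB le_sup_right), hδC, fun s hs => ?_⟩
  have hsB : s ∈ B := Subgroup.mem_sup_right hs
  set D := autFun δ s * s⁻¹
  have hD : D ∈ A := A.mul_mem (hfix hδm s hs) (A.inv_mem hs)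
  have hDX : D ∈ centralizerIn S T := Fusion.mem_centralizerIn.mpr ⟨hD.1, fun u hu => by
    have hv : s⁻¹ * u * s ∈ T := by
      simpa using conj_mem_of_mem_normalizer (normalizes_of_stronglyClosed hsc (S.inv_mem hs.1)) hu
    have h1 := hδm.map_conj hsB (hTB hv)
    rw [show s * (s⁻¹ * u * s) * s⁻¹ = u by group, hδT u hu, hδT _ hv] at h1
    calc D * u * D⁻¹ = autFun δ s * (s⁻¹ * u * s) * (autFun δ s)⁻¹ := by simp only [D]; group
      _ = u := h1.symm⟩
  have hDM : D ∈ M := Subgroup.mem_sup_right (mem_centralizerIn_sup hD hDX)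
  have hDB : D ∈ B := Subgroup.mem_sup_left hDM
  set q₁ := D⁻¹ * autFun δ D
  have hq₁ : q₁ ∈ C := hδmod D hDM
  have hit : ∀ n : ℕ, ∃ q ∈ C, autFun (δ ^ n) s = D ^ n * q * s := by
    intro n
    induction n with
    | zero => exact ⟨1, C.one_mem, by rw [pow_zero, autFun_one hsB]; simp⟩
    | succ n ih =>
      obtain ⟨q, hq, e₀⟩ := ih
      have hδq : autFun δ q ∈ C := hδC q hq ▸ autFun_mem a hq
      refine ⟨q₁ ^ n * autFun δ q, C.mul_mem (C.pow_mem hq₁ n) hδq, ?_⟩
      rw [pow_succ', autFun_mul _ _ hsB, e₀,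
        hδm.map_mul (B.mul_mem (B.pow_mem hDB n) (hCB hq)) hsB,
        hδm.map_mul (B.pow_mem hDB n) (hCB hq), hδm.map_pow hDB,
        show autFun δ D = D * q₁ by simp only [q₁]; group,
        (show Commute D q₁ from centralizerIn_comm hD hq₁).mul_pow,
        show autFun δ s = D * s by simp only [D]; group]
      have hcc := centralizerIn_comm hD (C.mul_mem (C.pow_mem hq₁ n) hδq)
      calc D ^ n * q₁ ^ n * autFun δ q * (D * s)
          = D ^ n * ((q₁ ^ n * autFun δ q) * D) * s := by group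
        _ = D ^ n * (D * (q₁ ^ n * autFun δ q)) * s := by rw [hcc]
        _ = D ^ (n + 1) * (q₁ ^ n * autFun δ q) * s := by rw [pow_succ]; group
  obtain ⟨q, hq, e₀⟩ := hit (orderOf δ)
  rw [pow_orderOf_eq_one, autFun_one hsB] at e₀
  have hDm : D ^ orderOf δ ∈ C := by
    rw [show D ^ orderOf δ = (D ^ orderOf δ * q * s) * s⁻¹ * q⁻¹ by group, ← e₀]
    simpa using C.inv_mem hq
  obtain ⟨i, hi⟩ := exists_pow_eq_one hS hD.1
  have hDC : D ∈ C := mem_of_pow_mem_coprime hi heo hDm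
  rw [show autFun δ s = D * s by simp only [D]; group, ← centralizerIn_comm hs hDC,
    inv_mul_cancel_left]
  exact hDC

end Cfsg.Lib.Fusion.NormCent
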